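import Cfsg.Agent.Lib.PermComp.Core

/-! # Chains for `Ω₈⁺(2)` on the 120 nonsingular points and the 120 points of its triality twist, generated by a script. -/

set_option autoImplicit false
set_option maxRecDepth 100000

namespace Cfsg.Agent.Lib.Schur.O8.G2Data

open _root_.Cfsg.Agent.Lib.PermComp

def h_n : Nat := nat_lit 241
def h_w : Nat := nat_lit 8
def h_mask : Nat := nat_lit 255
def h_L : Nat := nat_lit 1928
def h_maskL : Nat := nat_lit 0xffffffffffffffffffffffffffffffffffffffffffffffffffffffffffffffffffffffffffffffffffffffffffffffffffffffffffffffffffffffffffffffffffffffffffffffffffffffffffffffffffffffffffffffffffffffffffffffffffffffffffffffffffffffffffffffffffffffffffffffffffffffffffffffffffffffffffffffffffffffffffffffffffffffffffffffffffffffffffffffffffffffffffffffffffffffffffffffffffffffffffffffffffffffffffffffffffffffffffffffffffffffffffffffffffffffffffffffffffffffffffffffffffffffffffffffffffffffffffffffffff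
def h_idc : Nat := nat_lit 0xf0efeeedecebeae9e8e7e6e5e4e3e2e1e0dfdedddcdbdad9d8d7d6d5d4d3d2d1d0cfcecdcccbcac9c8c7c6c5c4c3c2c1c0bfbebdbcbbbab9b8b7b6b5b4b3b2b1b0afaeadacabaaa9a8a7a6a5a4a3a2a1a09f9e9d9c9b9a999897969594939291908f8e8d8c8b8a898887868584838281807f7e7d7c7b7a797877767574737271706f6e6d6c6b6a696867666564636261605f5e5d5c5b5a595857565554535251504f4e4d4c4b4a494847464544434241403f3e3d3c3b3a393837363534333231302f2e2d2c2b2a292827262524232221201f1e1d1c1b1a191817161514131211100f0e0d0c0b0a09080706050403020100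
def h_T : List Nat := [nat_lit 0xc6d3eebbbeebd6c3cedbe6b3b6e3decbcadfe2b7b2e7dacfc2d7eabfbaefd2c7d0d9e8b1b8e1e0c9c8d1f0b9c0e9d8c1c4d5ecbdbcedd4c5ccdde4b5b4e5dccd7d7e898a7a7994937b7c8788a4a3858691929c9b9e9d7f808b8c9695aaa99fa082818e8d9798adaea5a6a1a28483908f999aafb0a7a8acab47770b0e2a2b417130313d6d6c3c333657580104121b5152141d4d4e5c5b1520676803021c1161621e135d5e4c4b1f1648780d0c2c294272322f3e6e6b3b35340f37693a396a406f703f052d447374430727260a24181921594a505f54631a222317495a604f645310387546457625090828062e6556556600, nat_lit 0xb4b3eeb18e79918f987b9b99c0bfe2bda07da3a1c8c7dac5d8d7cad5a580aaa8a67fa9a7cccbd6c9dcdbc6d99f7ea4a2e4e3bee1977c9c9a8d7a9290f0efb2edb08184ad86abd2ced1cdd0d4c2dec1dde0c4889dbae6b9e5e8bc8a95948bb6eab5e9ecb88c9396899e87ac85ae8382afd3cfc3dfbbe7b7eb125e5f10055a5b03701715686c0c0a646d16186569090b610f767711047273062c575624253a3b1d4537354d4c302e4448363850492d2f41233f3e2b1e525326464f474e341c01314b424a43583d1f292127395455402228202a3c51331b1a08666f676e0d13785d75600e146b626a63190759745c71023200,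 nat_lit 0xb4b3b2ed7da0a2a47fa6a8aae4e3e2bd798e9092c8c7c6d9cccbcad57c97999b7b989a9cd8d7d6c9dcdbdac57a8d8f91c0bfbee180a5a7a97e9fa1a3f0efeeb1b081ae83ac85e5b9e6bae7bbe9b5eab6ebb79e87cdd1ced2cfd38a958c93ddc1dec2dfc3948b9689889d86ab84ad82afbce8b8ecd4d0c4e03c3b3a7505282a2c072e30326c6b6a450116181a504f4e615453525d041f212303202224605f5e516463624d0215171948474669082d2f310627292b787776393809360b340d6d416e426f43713d723e733f260f5559565a575b121d141b6549664a674b1c131e1110250e330c350a37447040745c584c6800, nat_lit 0xbfc0bcbbbebdb9bae1e2e6e5e4e3e7e8e0dfdbdcdddedad9c2c1c5c6c3c4c8c7d0cfcbcccdcecac9d2d1d5d6d3d4d8d7eff0ecebeeede9eab1b2b6b5b4b3b7b8b0afa8a7aaa9acabaeada6a5838485867f8081828f9091928b8c8d8e7a79999a9b9c959697987c7b8887a1a2a3a49d9e9fa07e7d8a8994934748444346454142696a6e6d6c6b6f7068676364656662614a494d4e4b4c504f58575354555652515a595d5e5b5c605f7778747376757172393a3e3d3c3b3f403837302f3231343336352e2d0b0c0d0e0708090a1718191a131415160201212223241d1e1f200403100f292a2b2c25262728060512111c1b00,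 nat_lit 0x9b99eebbecbd918f937bb4b3b6b58979cadfaeacaaa8dacfd8d7a0829e80c8c7d0d9a9a7adabe0c9d2d19d7f9f81c2c19290beebbced9c9a8a7ae4e3e6e5947cb07edeccddcbdccedbcda688a484a286d6c4d4c6baf0b9ef8b978d95b2e8c0eabfe98e968c98b8e2a587a185a383d5c3d3c5af7db1e7b7e14e5b764346735e4b56636e3b3e6b665352676a3f3a6f62574a5f724742775a4f586170394069685150597841487160494c5d744544755c4d54656c3d3c6d64550506111202011c1b03040f102c2b0d0e191a24232625070813141e1d323127280a0916151f2035362d2e292a0c0b1817212237382f30343300, nat_lit 0xf0b3eeb1dec1e0c3ced1d0d3c0e3bee1eab5ecb7dcc7dac5ccd7cad5bae5bce7e6b9e8bbd8cbd6c9c8dbc6d9b6e9b8ebe4bfe2bdd2cdd4cfc2ddc4dfb4efb2ed8281aead868597987b7c9b9c8d8e797a91928887a5a67f80a9aa96958c8b9fa07d7ea3a494938a899e9dacab8483b0af999a8f90a7a8a1a23c3b7639160119172003232148476a4528052b29504f624d605f525d2d0832302e07312f54535e5164634e6127062c2a6c6b46691f04242215021a1878773a7538090c350e335a565955585c4a664965684c1025426e416d7044121d1c133e723d717440141b1e11260f340d360b0a375b574b67436f3f7300,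 nat_lit 0xbfef8386a2a3b9e9a8a9b5e5e4b4abaecfd0797c8a93c9ca8c95c5c6d4d38d98dfe07b7a9489d9da968bd5d6c4c3978ec0f08584a4a1baeaaaa7b6e6e3b3adac87afe1b2b1e2b8e7e8b77da5bcebecbb7f9f9e829c909199d1c2c8d7ccdb929a9b8fc1d2d8c7dccb88b0edbebdee9d8180a07ea6ddcecdde23217643744519171b033c3b3e3d11015267363432306257605f280a2608504f5861312f353368515a59250727094a491a1846734475242212026c6b6e6d1c04380666546553645663552e102c0c2a0e5e4c5c4e42784177131f151d3a7048724771161e1420406a2d0f290d2b0b5d4b5b4d3705396f3f6900, nat_lit 0x8ad6d7887dd2d37be88f8de0e48482dce58e90dde18183d987eeef897ceaeb7ea4cfce9c9db2b395bdafadc5c4a8a6bcc0aeb0c8c1a5a7b99bb7b6a396cacb9ebec7bfc6ac9479a9c3bac2bbd0b597a1999fb1cccdb89aa098a2b4c9ab939280dee7dfe6858bf0d5edd8868ce3dae2db917fd1ecd4e97aaa783b76396649684b5659585b486b4669723d743f644f624d545f525d426d446f6e41704360535e5150634e613e7140736c476a455a555c574a654c673c773a750a0936350e0d1f200304232415160102191a100f2d2e070831321e1d1413272805062b2c1c1b1211262534330c0b3837212217182f30292a00]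
def h_prog : List (Nat × Nat × Nat) := [(nat_lit 1, nat_lit 7, nat_lit 0), (nat_lit 1, nat_lit 7, nat_lit 0), (nat_lit 1, nat_lit 7, nat_lit 0), (nat_lit 1, nat_lit 7, nat_lit 0), (nat_lit 1, nat_lit 6, nat_lit 0), (nat_lit 0, nat_lit 12, nat_lit 9), (nat_lit 0, nat_lit 0, nat_lit 7), (nat_lit 0, nat_lit 0, nat_lit 14), (nat_lit 0, nat_lit 0, nat_lit 12), (nat_lit 0, nat_lit 0, nat_lit 9), (nat_lit 0, nat_lit 0, nat_lit 10), (nat_lit 0, nat_lit 0, nat_lit 15), (nat_lit 0, nat_lit 0, nat_lit 14), (nat_lit 0, nat_lit 0, nat_lit 17), (nat_lit 0, nat_lit 10, nat_lit 9), (nat_lit 0, nat_lit 0, nat_lit 1), (nat_lit 0, nat_lit 20, nat_lit 19), (nat_lit 0, nat_lit 0, nat_lit 24), (nat_lit 0, nat_lit 0, nat_lit 19), (nat_lit 0, nat_lit 0, nat_lit 25), (nat_lit 0, nat_lit 0, nat_lit 25), (nat_lit 0, nat_lit 0, nat_lit 24), (nat_lit 0, nat_lit 0, nat_lit 28), (nat_lit 0, nat_lit 0, nat_lit 25),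 (nat_lit 0, nat_lit 0, nat_lit 25), (nat_lit 0, nat_lit 0, nat_lit 29), (nat_lit 0, nat_lit 25, nat_lit 24), (nat_lit 0, nat_lit 0, nat_lit 26), (nat_lit 0, nat_lit 0, nat_lit 25), (nat_lit 0, nat_lit 0, nat_lit 3), (nat_lit 0, nat_lit 33, nat_lit 30), (nat_lit 0, nat_lit 0, nat_lit 32), (nat_lit 0, nat_lit 0, nat_lit 39), (nat_lit 0, nat_lit 0, nat_lit 33), (nat_lit 0, nat_lit 0, nat_lit 38), (nat_lit 0, nat_lit 0, nat_lit 36), (nat_lit 0, nat_lit 0, nat_lit 37), (nat_lit 0, nat_lit 36, nat_lit 33), (nat_lit 0, nat_lit 0, nat_lit 1), (nat_lit 1, nat_lit 23, nat_lit 0), (nat_lit 1, nat_lit 10, nat_lit 0), (nat_lit 1, nat_lit 2, nat_lit 0), (nat_lit 0, nat_lit 12, nat_lit 12), (nat_lit 0, nat_lit 3, nat_lit 2), (nat_lit 0, nat_lit 28, nat_lit 14), (nat_lit 0, nat_lit 0, nat_lit 15), (nat_lit 0, nat_lit 0, nat_lit 16), (nat_lit 0, nat_lit 0, nat_lit 8), (nat_lit 0, nat_lit 0, nat_lit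 32), (nat_lit 0, nat_lit 0, nat_lit 19), (nat_lit 0, nat_lit 0, nat_lit 34), (nat_lit 0, nat_lit 0, nat_lit 21), (nat_lit 0, nat_lit 0, nat_lit 13), (nat_lit 0, nat_lit 0, nat_lit 14), (nat_lit 0, nat_lit 0, nat_lit 15), (nat_lit 0, nat_lit 11, nat_lit 15), (nat_lit 0, nat_lit 0, nat_lit 14), (nat_lit 0, nat_lit 0, nat_lit 2), (nat_lit 0, nat_lit 19, nat_lit 19), (nat_lit 0, nat_lit 0, nat_lit 43), (nat_lit 0, nat_lit 0, nat_lit 44), (nat_lit 0, nat_lit 0, nat_lit 22), (nat_lit 0, nat_lit 0, nat_lit 46), (nat_lit 0, nat_lit 0, nat_lit 47), (nat_lit 0, nat_lit 0, nat_lit 48), (nat_lit 0, nat_lit 0, nat_lit 26), (nat_lit 0, nat_lit 0, nat_lit 27), (nat_lit 0, nat_lit 27, nat_lit 0), (nat_lit 0, nat_lit 52, nat_lit 29), (nat_lit 0, nat_lit 0, nat_lit 39), (nat_lit 0, nat_lit 0, nat_lit 31), (nat_lit 0, nat_lit 0, nat_lit 41), (nat_lit 0, nat_lit 0, nat_lit 42), (nat_lit 0, nat_lit 0,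 nat_lit 43), (nat_lit 0, nat_lit 0, nat_lit 35), (nat_lit 0, nat_lit 0, nat_lit 36), (nat_lit 0, nat_lit 0, nat_lit 37), (nat_lit 0, nat_lit 21, nat_lit 36), (nat_lit 0, nat_lit 0, nat_lit 37), (nat_lit 0, nat_lit 0, nat_lit 2), (nat_lit 0, nat_lit 11, nat_lit 64), (nat_lit 0, nat_lit 0, nat_lit 51), (nat_lit 0, nat_lit 0, nat_lit 66), (nat_lit 0, nat_lit 0, nat_lit 53), (nat_lit 0, nat_lit 0, nat_lit 54), (nat_lit 0, nat_lit 0, nat_lit 46), (nat_lit 0, nat_lit 0, nat_lit 47), (nat_lit 0, nat_lit 0, nat_lit 71), (nat_lit 0, nat_lit 0, nat_lit 49), (nat_lit 0, nat_lit 0, nat_lit 59), (nat_lit 0, nat_lit 12, nat_lit 50), (nat_lit 0, nat_lit 0, nat_lit 50), (nat_lit 0, nat_lit 0, nat_lit 51), (nat_lit 0, nat_lit 0, nat_lit 3), (nat_lit 0, nat_lit 51, nat_lit 64), (nat_lit 0, nat_lit 0, nat_lit 79), (nat_lit 0, nat_lit 0, nat_lit 57), (nat_lit 0, nat_lit 0, nat_lit 58), (nat_lit 0, nat_lit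 0, nat_lit 59), (nat_lit 0, nat_lit 0, nat_lit 60), (nat_lit 0, nat_lit 0, nat_lit 70), (nat_lit 0, nat_lit 60, nat_lit 60), (nat_lit 0, nat_lit 0, nat_lit 61), (nat_lit 0, nat_lit 0, nat_lit 62), (nat_lit 0, nat_lit 0, nat_lit 3), (nat_lit 1, nat_lit 47, nat_lit 0), (nat_lit 1, nat_lit 38, nat_lit 0), (nat_lit 1, nat_lit 2, nat_lit 0), (nat_lit 0, nat_lit 14, nat_lit 40), (nat_lit 0, nat_lit 0, nat_lit 41), (nat_lit 0, nat_lit 0, nat_lit 5), (nat_lit 0, nat_lit 5, nat_lit 3), (nat_lit 0, nat_lit 0, nat_lit 1), (nat_lit 0, nat_lit 8, nat_lit 55), (nat_lit 0, nat_lit 0, nat_lit 9), (nat_lit 0, nat_lit 0, nat_lit 35), (nat_lit 0, nat_lit 0, nat_lit 58), (nat_lit 0, nat_lit 0, nat_lit 59), (nat_lit 0, nat_lit 11, nat_lit 0), (nat_lit 1, nat_lit 6, nat_lit 0), (nat_lit 1, nat_lit 1, nat_lit 0), (nat_lit 0, nat_lit 8, nat_lit 2), (nat_lit 0, nat_lit 0, nat_lit 9), (nat_lit 0, nat_lit 0,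 nat_lit 4), (nat_lit 0, nat_lit 4, nat_lit 3), (nat_lit 0, nat_lit 0, nat_lit 5), (nat_lit 0, nat_lit 0, nat_lit 2), (nat_lit 0, nat_lit 14, nat_lit 14), (nat_lit 0, nat_lit 0, nat_lit 15), (nat_lit 0, nat_lit 0, nat_lit 10), (nat_lit 0, nat_lit 0, nat_lit 11), (nat_lit 0, nat_lit 0, nat_lit 18), (nat_lit 0, nat_lit 0, nat_lit 19), (nat_lit 0, nat_lit 0, nat_lit 20), (nat_lit 0, nat_lit 14, nat_lit 14), (nat_lit 0, nat_lit 0, nat_lit 15), (nat_lit 0, nat_lit 0, nat_lit 16), (nat_lit 0, nat_lit 0, nat_lit 3), (nat_lit 0, nat_lit 19, nat_lit 25), (nat_lit 0, nat_lit 0, nat_lit 20), (nat_lit 0, nat_lit 0, nat_lit 21), (nat_lit 0, nat_lit 0, nat_lit 22), (nat_lit 0, nat_lit 0, nat_lit 23), (nat_lit 0, nat_lit 0, nat_lit 24), (nat_lit 0, nat_lit 0, nat_lit 25), (nat_lit 0, nat_lit 0, nat_lit 32), (nat_lit 0, nat_lit 0, nat_lit 33), (nat_lit 0, nat_lit 0, nat_lit 28), (nat_lit 0, nat_lit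 0, nat_lit 29), (nat_lit 0, nat_lit 14, nat_lit 0), (nat_lit 1, nat_lit 23, nat_lit 0), (nat_lit 0, nat_lit 13, nat_lit 24), (nat_lit 0, nat_lit 0, nat_lit 14), (nat_lit 0, nat_lit 0, nat_lit 26), (nat_lit 0, nat_lit 0, nat_lit 16), (nat_lit 0, nat_lit 0, nat_lit 5), (nat_lit 0, nat_lit 0, nat_lit 6), (nat_lit 0, nat_lit 0, nat_lit 30), (nat_lit 0, nat_lit 0, nat_lit 8), (nat_lit 0, nat_lit 0, nat_lit 21), (nat_lit 0, nat_lit 9, nat_lit 0), (nat_lit 0, nat_lit 34, nat_lit 34), (nat_lit 0, nat_lit 0, nat_lit 24), (nat_lit 0, nat_lit 0, nat_lit 36), (nat_lit 0, nat_lit 0, nat_lit 37), (nat_lit 0, nat_lit 0, nat_lit 15), (nat_lit 0, nat_lit 0, nat_lit 39), (nat_lit 0, nat_lit 16, nat_lit 16), (nat_lit 0, nat_lit 0, nat_lit 1), (nat_lit 1, nat_lit 8, nat_lit 0), (nat_lit 1, nat_lit 1, nat_lit 0), (nat_lit 0, nat_lit 2, nat_lit 2), (nat_lit 0, nat_lit 0, nat_lit 11), (nat_lit 0, nat_lit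 0, nat_lit 4), (nat_lit 0, nat_lit 0, nat_lit 13), (nat_lit 0, nat_lit 0, nat_lit 14), (nat_lit 0, nat_lit 0, nat_lit 7), (nat_lit 0, nat_lit 0, nat_lit 8), (nat_lit 0, nat_lit 0, nat_lit 9), (nat_lit 0, nat_lit 0, nat_lit 18), (nat_lit 0, nat_lit 0, nat_lit 11), (nat_lit 0, nat_lit 0, nat_lit 20), (nat_lit 0, nat_lit 12, nat_lit 12), (nat_lit 0, nat_lit 0, nat_lit 12), (nat_lit 0, nat_lit 0, nat_lit 2)]
def h_s0 : Nat := nat_lit 0xc6d3eebbbeebd6c3cedbe6b3b6e3decbcadfe2b7b2e7dacfc2d7eabfbaefd2c7d0d9e8b1b8e1e0c9c8d1f0b9c0e9d8c1c4d5ecbdbcedd4c5ccdde4b5b4e5dccd7d7e898a7a7994937b7c8788a4a3858691929c9b9e9d7f808b8c9695aaa99fa082818e8d9798adaea5a6a1a28483908f999aafb0a7a8acab47770b0e2a2b417130313d6d6c3c333657580104121b5152141d4d4e5c5b1520676803021c1161621e135d5e4c4b1f1648780d0c2c294272322f3e6e6b3b35340f37693a396a406f703f052d447374430727260a24181921594a505f54631a222317495a604f645310387546457625090828062e6556556600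
def h_s1 : Nat := nat_lit 0xf0ef8d978b95b9ba8993b5b6b3b4797be0d0abada7a9c9d9a1a3c5d5c3d38385dfcfaeacaaa8cadaa4a2c6d6c4d48684c0bf988e968ce9ea948ae5e6e3e47c7ab088ceddcddeccdbcbdca67ec8d7c7d8a0809e829c909a92beedbcebb8e799919b8fbdeebbecb7e8af87c2d1c1d29d819f7fa57db2e1b1e223211f1e1d202224706a6b6c6d6e6f6961676665646362682c2a28252627292b58525354555657510e0c0a0708090b0d1a18161314151719403a3b3c3d3e3f39382d362f3431323330352e3760595f5a5e5b5c5d7178727773767574021b48414742464344451203060f50494f4a4e4b4c4d100504111c0100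
def h_s2 : Nat := nat_lit 0x7f8cd4d3eceb828ddad97b887e89e0dfe2e17d8a7c87e8e7818ed6d5eeed808ba8a9b4cdccb5abaebac79a9ba1a4c0c1c2bfa2a3999cc8b9acadb6cbceb3a7aa79afc9b7b8cab1cfd0b293a5c3bdbec4a096979dbbc5c6bc989e9f9594a683919086d7e9efd1dde3e5db8f858492ead8d2f0e4dedce67ab05e6a76626d596571705c68745f6b77636e5a66725d697561606c78646f5b677343574b3f54483c505145394d42564a3e53473b4f44584c404155493d52463a4e1e1d1b1c25262221302f292a1f202d2e28273334242332312b2c383735360304070806050b0c0a090d0e0f101314121117181615191a020100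
def h_s3 : Nat := nat_lit 0xd19fccd6ab81dda6f0b29cebb98de4bea17dd79e83c5a880b389eab88f79bf8cc0e291bbe998b4eeaadf85afd8caa3d3e394bae89a7cef95dec4add9cb88d2d0db847fe0c2a7d47ea2cec99d7abce6908be1ed8ada82acc8c3a5a0cfe78e7becb69996b1bd9387d5b797dc86b0c6c1a9a4cde592aec7b59b6a6c74726b697173706e76786d6f77755c5a6264595b63615e6068665f5d65674c4a5254494b53514e5058564f4d55573a3c44423b394143403e46483d3f4745363527282b2c34333837292a2d2e313226252f30201f24231b1c22211d1e16151a19111218171314100f0a090e0d05060c0b07080403020100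
def h_s4 : Nat := nat_lit 0xd68acfcbd1d597d0e2e6acbf81e1a5ada49eeb7eb5a1f0ecc694dfdbc1c58de0918bc379dd90c8c4ee87b7b3e9eda0b8a9ba857fb0a8e4849b95d37bcd9ad8d4beaa80e3e786a7bdb9af83e896ceca9c7cd799c9de8c92dac77ad98fea88b69da3b2ef7db1a2c29389d2c0a6aebce582bbabcc988edc9fb475727873767177746e696f6c6d6a706b66616764656268635d5a605b5e595f5c56515754555258534d4a504b4e494f4c45424843464147443e393f3c3d3a403b302f33342d2e3738313236352a29262527282b2c22211e1d1f2023241c1b181714131516191a1211100f0c0b0807090a0d0e06050403020100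
def h_s5 : Nat := nat_lit 0xb2d2959ab1b6879ba5ace7c78dade8e39da2edcd89a3eee9dfbf8083e0db7a86d1d69c88b5d59996ae8ec8c3aba6e4c4a48acec9a19eeacac0bb8579dcbc847f92a7c6e1e6c1af8c8faac5e2b8d3d8b3987db7d4bed9deb99481bddaa07b90a9b08be5c291a8d7b4ddbad0ebf0cb9f7ccfec9382977eefcc75787677727371746e6f6d70696c6a6b66676568616462635d605e5f5a5b595c56575558515452534d504e4f4a4b494c45484647424341443e3f3d40393c3a3b333437383635302f2d2e31322a2927282b2c262522211f2023241e1d1c1b18171516191a14131211100f0c0b090a0d0e080706050403020100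
def h_s6 : Nat := nat_lit 0xc2857fbac3918bbbe1ada5d9e0afa7e8e4b0a8dcddaea6e5bf928cc7be8680c67db6b27b89b7b3879fd5d197a1ecf099a2d8d49aa0e9ed988acbcf887ecace7cdfe3dbe7aa94ac7adee2dae69082c0c4bcc88e848d83bdc1b9c58f81ab79d7eba4969e9cd6eab8ccb5c9d3ef9d9ba395d2eeb4d0b1cda99377787576737471726f706d6e6b6c696a67686566636461625f605d5e5b5c595a57585556535451524f504d4e4b4c494a47484546434441423f403d3e3b3c393a38373536333431322f302e2d2b2c292a2827262523242122201f1e1d1c1b191a1718161514131211100f0d0e0b0c0a09080706050403020100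
noncomputable def h_lev0 : Core.Lev := Core.mkLev h_n h_w h_mask h_L h_maskL h_idc (nat_lit 1) [h_s6, h_s5, h_s4, h_s3, h_s2, h_s1, h_s0] [(nat_lit 102, h_s0, nat_lit 1), (nat_lit 101, h_s6, nat_lit 102), (nat_lit 103, h_s4, nat_lit 102), (nat_lit 98, h_s3, nat_lit 102), (nat_lit 104, h_s5, nat_lit 101), (nat_lit 100, h_s4, nat_lit 101), (nat_lit 114, h_s2, nat_lit 101), (nat_lit 4, h_s0, nat_lit 101), (nat_lit 97, h_s4, nat_lit 103), (nat_lit 90, h_s3, nat_lit 103), (nat_lit 88, h_s0, nat_lit 103), (nat_lit 99, h_s3, nat_lit 98), (nat_lit 117, h_s2, nat_lit 98), (nat_lit 81, h_s0, nat_lit 98), (nat_lit 92, h_s3, nat_lit 104), (nat_lit 110, h_s2, nat_lit 104), (nat_lit 87, h_s0, nat_lit 104), (nat_lit 89, h_s3, nat_lit 100), (nat_lit 93, h_s2, nat_lit 100), (nat_lit 18, h_s0, nat_lit 100), (nat_lit 113, h_s6, nat_lit 114), (nat_lit 119, h_s4, nat_lit 114), (nat_lit 34, h_s1, nat_lit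 114), (nat_lit 65, h_s0, nat_lit 114), (nat_lit 25, h_s2, nat_lit 4), (nat_lit 82, h_s0, nat_lit 97), (nat_lit 95, h_s4, nat_lit 90), (nat_lit 41, h_s1, nat_lit 90), (nat_lit 21, h_s0, nat_lit 90), (nat_lit 86, h_s5, nat_lit 88), (nat_lit 76, h_s3, nat_lit 88), (nat_lit 67, h_s2, nat_lit 88), (nat_lit 91, h_s3, nat_lit 99), (nat_lit 105, h_s2, nat_lit 99), (nat_lit 27, h_s0, nat_lit 99), (nat_lit 118, h_s6, nat_lit 117), (nat_lit 115, h_s4, nat_lit 117), (nat_lit 30, h_s1, nat_lit 117), (nat_lit 14, h_s0, nat_lit 117), (nat_lit 83, h_s5, nat_lit 81), (nat_lit 80, h_s2, nat_lit 81), (nat_lit 94, h_s4, nat_lit 92), (nat_lit 111, h_s2, nat_lit 92), (nat_lit 38, h_s1, nat_lit 92), (nat_lit 109, h_s6, nat_lit 110), (nat_lit 107, h_s1, nat_lit 110), (nat_lit 61, h_s0, nat_lit 110), (nat_lit 74, h_s3, nat_lit 87), (nat_lit 43, h_s1, nat_lit 89), (nat_lit 32, h_s0, nat_lit 89), (nat_lit 37,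 h_s1, nat_lit 93), (nat_lit 78, h_s0, nat_lit 93), (nat_lit 19, h_s3, nat_lit 18), (nat_lit 10, h_s2, nat_lit 18), (nat_lit 116, h_s5, nat_lit 113), (nat_lit 36, h_s1, nat_lit 113), (nat_lit 120, h_s6, nat_lit 119), (nat_lit 108, h_s3, nat_lit 119), (nat_lit 106, h_s2, nat_lit 119), (nat_lit 33, h_s1, nat_lit 119), (nat_lit 31, h_s5, nat_lit 34), (nat_lit 50, h_s2, nat_lit 34), (nat_lit 66, h_s6, nat_lit 65), (nat_lit 68, h_s5, nat_lit 65), (nat_lit 64, h_s2, nat_lit 65), (nat_lit 26, h_s6, nat_lit 25), (nat_lit 23, h_s5, nat_lit 25), (nat_lit 60, h_s2, nat_lit 82), (nat_lit 96, h_s6, nat_lit 95), (nat_lit 42, h_s1, nat_lit 95), (nat_lit 29, h_s0, nat_lit 95), (nat_lit 40, h_s5, nat_lit 41), (nat_lit 46, h_s2, nat_lit 41), (nat_lit 22, h_s4, nat_lit 21), (nat_lit 5, h_s2, nat_lit 21), (nat_lit 85, h_s6, nat_lit 86), (nat_lit 75, h_s2, nat_lit 86), (nat_lit 3, h_s0, nat_lit 86), (nat_lit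 79, h_s3, nat_lit 76), (nat_lit 8, h_s1, nat_lit 76), (nat_lit 57, h_s3, nat_lit 67), (nat_lit 39, h_s1, nat_lit 91), (nat_lit 54, h_s0, nat_lit 105), (nat_lit 11, h_s0, nat_lit 118), (nat_lit 35, h_s4, nat_lit 30), (nat_lit 56, h_s2, nat_lit 30), (nat_lit 13, h_s6, nat_lit 14), (nat_lit 12, h_s5, nat_lit 14), (nat_lit 15, h_s2, nat_lit 14), (nat_lit 84, h_s6, nat_lit 83), (nat_lit 72, h_s2, nat_lit 83), (nat_lit 17, h_s0, nat_lit 83), (nat_lit 77, h_s5, nat_lit 80), (nat_lit 112, h_s6, nat_lit 111), (nat_lit 49, h_s0, nat_lit 111), (nat_lit 47, h_s3, nat_lit 38), (nat_lit 51, h_s2, nat_lit 38), (nat_lit 62, h_s6, nat_lit 61), (nat_lit 73, h_s6, nat_lit 74), (nat_lit 44, h_s6, nat_lit 43), (nat_lit 48, h_s3, nat_lit 37), (nat_lit 52, h_s2, nat_lit 37), (nat_lit 69, h_s1, nat_lit 19), (nat_lit 9, h_s4, nat_lit 10), (nat_lit 71, h_s0, nat_lit 120), (nat_lit 28, h_s3, nat_lit 31), (nat_lit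 55, h_s4, nat_lit 50), (nat_lit 70, h_s4, nat_lit 68), (nat_lit 59, h_s3, nat_lit 68), (nat_lit 20, h_s1, nat_lit 68), (nat_lit 63, h_s6, nat_lit 64), (nat_lit 24, h_s5, nat_lit 26), (nat_lit 45, h_s2, nat_lit 42), (nat_lit 7, h_s0, nat_lit 40), (nat_lit 6, h_s2, nat_lit 22), (nat_lit 2, h_s0, nat_lit 85), (nat_lit 58, h_s6, nat_lit 57), (nat_lit 53, h_s6, nat_lit 54), (nat_lit 16, h_s2, nat_lit 13)]
noncomputable def h_lev1 : Core.Lev := Core.mkLev h_n h_w h_mask h_L h_maskL h_idc (nat_lit 2) [h_s6, h_s5, h_s4, h_s3, h_s2, h_s1] [(nat_lit 28, h_s1, nat_lit 2), (nat_lit 29, h_s3, nat_lit 28), (nat_lit 53, h_s2, nat_lit 28), (nat_lit 36, h_s4, nat_lit 29), (nat_lit 33, h_s3, nat_lit 29), (nat_lit 55, h_s2, nat_lit 29), (nat_lit 116, h_s1, nat_lit 29), (nat_lit 54, h_s6, nat_lit 53), (nat_lit 56, h_s5, nat_lit 53), (nat_lit 52, h_s4, nat_lit 53), (nat_lit 40, h_s3, nat_lit 53), (nat_lit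 47, h_s1, nat_lit 53), (nat_lit 35, h_s6, nat_lit 36), (nat_lit 34, h_s5, nat_lit 36), (nat_lit 32, h_s3, nat_lit 36), (nat_lit 113, h_s1, nat_lit 36), (nat_lit 49, h_s2, nat_lit 33), (nat_lit 119, h_s1, nat_lit 33), (nat_lit 45, h_s1, nat_lit 55), (nat_lit 115, h_s6, nat_lit 116), (nat_lit 114, h_s5, nat_lit 116), (nat_lit 118, h_s4, nat_lit 116), (nat_lit 107, h_s3, nat_lit 116), (nat_lit 109, h_s2, nat_lit 116), (nat_lit 51, h_s4, nat_lit 54), (nat_lit 39, h_s3, nat_lit 54), (nat_lit 27, h_s2, nat_lit 54), (nat_lit 48, h_s4, nat_lit 56), (nat_lit 30, h_s2, nat_lit 56), (nat_lit 43, h_s3, nat_lit 52), (nat_lit 37, h_s2, nat_lit 52), (nat_lit 38, h_s3, nat_lit 40), (nat_lit 94, h_s1, nat_lit 40), (nat_lit 46, h_s5, nat_lit 47), (nat_lit 50, h_s4, nat_lit 47), (nat_lit 31, h_s3, nat_lit 35), (nat_lit 120, h_s1, nat_lit 35), (nat_lit 108, h_s3, nat_lit 119), (nat_lit 106, h_s2, nat_lit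 119), (nat_lit 42, h_s3, nat_lit 45), (nat_lit 105, h_s3, nat_lit 115), (nat_lit 89, h_s2, nat_lit 115), (nat_lit 101, h_s2, nat_lit 114), (nat_lit 117, h_s6, nat_lit 118), (nat_lit 111, h_s3, nat_lit 107), (nat_lit 110, h_s1, nat_lit 107), (nat_lit 112, h_s5, nat_lit 109), (nat_lit 44, h_s3, nat_lit 51), (nat_lit 91, h_s1, nat_lit 39), (nat_lit 41, h_s5, nat_lit 43), (nat_lit 93, h_s1, nat_lit 37), (nat_lit 92, h_s1, nat_lit 38), (nat_lit 96, h_s4, nat_lit 94), (nat_lit 104, h_s3, nat_lit 94), (nat_lit 95, h_s2, nat_lit 108), (nat_lit 99, h_s2, nat_lit 105), (nat_lit 90, h_s6, nat_lit 89), (nat_lit 103, h_s3, nat_lit 89), (nat_lit 102, h_s6, nat_lit 101), (nat_lit 100, h_s4, nat_lit 101), (nat_lit 98, h_s2, nat_lit 117), (nat_lit 97, h_s1, nat_lit 104)]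
noncomputable def h_lev2 : Core.Lev := Core.mkLev h_n h_w h_mask h_L h_maskL h_idc (nat_lit 3) [h_s6, h_s5, h_s4, h_s3, h_s2] [(nat_lit 26, h_s2, nat_lit 3), (nat_lit 25, h_s6, nat_lit 26), (nat_lit 24, h_s5, nat_lit 26), (nat_lit 22, h_s3, nat_lit 26), (nat_lit 23, h_s5, nat_lit 25), (nat_lit 21, h_s3, nat_lit 25), (nat_lit 4, h_s2, nat_lit 25), (nat_lit 20, h_s4, nat_lit 24), (nat_lit 7, h_s2, nat_lit 24), (nat_lit 17, h_s3, nat_lit 22), (nat_lit 6, h_s2, nat_lit 22), (nat_lit 19, h_s4, nat_lit 23), (nat_lit 8, h_s2, nat_lit 23), (nat_lit 18, h_s3, nat_lit 21), (nat_lit 5, h_s2, nat_lit 21), (nat_lit 11, h_s2, nat_lit 20), (nat_lit 14, h_s4, nat_lit 7), (nat_lit 9, h_s2, nat_lit 17), (nat_lit 12, h_s2, nat_lit 19), (nat_lit 13, h_s4, nat_lit 8), (nat_lit 10, h_s2, nat_lit 18), (nat_lit 15, h_s2, nat_lit 14), (nat_lit 16, h_s2, nat_lit 13)]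
noncomputable def h_lev3 : Core.Lev := Core.mkLev h_n h_w h_mask h_L h_maskL h_idc (nat_lit 5) [h_s6, h_s5, h_s4, h_s3] [(nat_lit 8, h_s3, nat_lit 5), (nat_lit 13, h_s4, nat_lit 8), (nat_lit 12, h_s3, nat_lit 8), (nat_lit 14, h_s6, nat_lit 13), (nat_lit 11, h_s5, nat_lit 13), (nat_lit 9, h_s3, nat_lit 13), (nat_lit 10, h_s3, nat_lit 14), (nat_lit 7, h_s4, nat_lit 11), (nat_lit 6, h_s3, nat_lit 9)]
noncomputable def h_lev4 : Core.Lev := Core.mkLev h_n h_w h_mask h_L h_maskL h_idc (nat_lit 7) [h_s6, h_s5, h_s4] [(nat_lit 14, h_s4, nat_lit 7), (nat_lit 13, h_s6, nat_lit 14), (nat_lit 12, h_s5, nat_lit 14), (nat_lit 11, h_s5, nat_lit 13), (nat_lit 9, h_s5, nat_lit 12), (nat_lit 8, h_s4, nat_lit 12), (nat_lit 10, h_s5, nat_lit 11)]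
noncomputable def h_lev5 : Core.Lev := Core.mkLev h_n h_w h_mask h_L h_maskL h_idc (nat_lit 9) [h_s6, h_s5] [(nat_lit 14, h_s5, nat_lit 9), (nat_lit 13, h_s6, nat_lit 14), (nat_lit 12, h_s5, nat_lit 14), (nat_lit 11, h_s5, nat_lit 13), (nat_lit 10, h_s5, nat_lit 11)]
noncomputable def h_lev6 : Core.Lev := Core.mkLev h_n h_w h_mask h_L h_maskL h_idc (nat_lit 11) [h_s6] [(nat_lit 12, h_s6, nat_lit 11)]
noncomputable def h_levels : List Core.Lev := [h_lev0, h_lev1, h_lev2, h_lev3, h_lev4, h_lev5, h_lev6]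
def k_n : Nat := nat_lit 121
def k_w : Nat := nat_lit 7
def k_mask : Nat := nat_lit 127
def k_L : Nat := nat_lit 847
def k_maskL : Nat := nat_lit 0x7fffffffffffffffffffffffffffffffffffffffffffffffffffffffffffffffffffffffffffffffffffffffffffffffffffffffffffffffffffffffffffffffffffffffffffffffffffffffffffffffffffffffffffffffffffffffffffffffffffffffffffffffffff
def k_idc : Nat := nat_lit 0x78efdbaf4e7cb8f0dfbb6ecd7ab4e8cf9b2e4c78b0e0bf7aedcb76acd8af5aad4a74a8d09f3a6cc972a4c88f1a2c4870a0c07ef9ebc76e9cb86ed9ab466c98b05eb96ac56a94a84e992a446890a03e78e9c3668c982e58a9426488901e3868c16284880e182840608080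
def k_T : List Nat := [nat_lit 0x47ee2c72a57078b062f76ec78cdb57b00421237469143b3675cb655067d00c11c238711e2776f4c967cb48f03462c530b9325efb76b76d5a0f6fa5d39d5037f07e156c4e7d21874e9852430650d99542fd4c6691232f26d609f9299071d6345ec944885019765ad57300, nat_lit 0x12bd7c805b56c1f02e5746c182b26d2c632e9122f08feddc884e5cc32caf5922574ecec56ed66cc60ba2486ce28495abe0a37ef959ea54d3469f1e73438058cb852a1d87a7d4a14ee6a55808942054f28b33668466df9f70d27e2ef5c038a6bc5ab1990f67a5ce209900, nat_lit 0x3c76eba8550a96075cc196cd7aa2812c60d509f3b0d4a74ae843e851834089260bf7a8e4c78a6822a5ccc88f1b4885abd8864ea55f8efd9cb812d85b41bb60ee85be1f17bc9f737e987d5b35ad57b648e9437964e6959e59c26788904a3998c6a29bc4e103a5cb133400, nat_lit 0x4791121c68b06169d5bb6ecd7bf868cf8f265cd8b0ca933674b99427d8af4ea55ad4a8dab376f5bb982ff7f1d39f6ebc793974f9ebc76fe0386ec17b262d19b66ab968b183470710245173064d132854b0202851234874f1f40101901ea552b589532750182922270d80,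 nat_lit 0x4eb7da1c6e77a5d6c7b9dbed79a9d2cfa9fbadf8abcabfca3c2ef6a7d8c3c1cc0d3a28d0b3e20c8e3824ccbbd22c4eb726d4cbb1ebcdb92a850c449020270d83083c82c563471934911a64a1c4132878eb2629d40a1258a9f40d5b2d5ca550c1660ba144ddc2f60d1980, nat_lit 0x3c77d9c960264ba0068d0c88faa2a80aad4d09f8a6e0bf4aead10c982e0ec57d4a77a8e4c73b0a70cb156cd71b49f08911150468c78eeebab81231a8e676ab59ab62e4acd272e898412c2dd076f08848e9c26fb93de3d201436788a61ed06b61629bdbaf2f3c3deff980, nat_lit 0x2343da1f48a64b9b06f1dbe7a440d2ced9a32618abe0bea052611427d8c2c57b567a28dab2943a7132a49a311b9c4ea9111205b35eeda702380d9aa65a792b63aab882c18a875e9972742f107b933e54ebae123947e258f14410352d1ea46ab17765db9adc2b9deff480, nat_lit 0x7877d9ce693a25d6b362dc8d71b4f27bd1fe49f8a6d4bf4aec2db137ee83c21e0a77a8d0c73b0bee3039ec8faa2daab72bcacb333bceeeba8a12d9a8e1a7d003088d2152c0411934407ad5c1c4316478e94269d4050cad61c36488a64ad198c16e1ba1445cc2f60a5500]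
def k_prog : List (Nat × Nat × Nat) := [(nat_lit 1, nat_lit 7, nat_lit 0), (nat_lit 1, nat_lit 7, nat_lit 0), (nat_lit 1, nat_lit 7, nat_lit 0), (nat_lit 1, nat_lit 7, nat_lit 0), (nat_lit 1, nat_lit 6, nat_lit 0), (nat_lit 0, nat_lit 12, nat_lit 9), (nat_lit 0, nat_lit 0, nat_lit 7), (nat_lit 0, nat_lit 0, nat_lit 14), (nat_lit 0, nat_lit 0, nat_lit 12), (nat_lit 0, nat_lit 0, nat_lit 9), (nat_lit 0, nat_lit 0, nat_lit 10), (nat_lit 0, nat_lit 0, nat_lit 15), (nat_lit 0, nat_lit 0, nat_lit 14), (nat_lit 0, nat_lit 0, nat_lit 17), (nat_lit 0, nat_lit 10, nat_lit 9), (nat_lit 0, nat_lit 0, nat_lit 1), (nat_lit 0, nat_lit 20, nat_lit 19), (nat_lit 0, nat_lit 0, nat_lit 24), (nat_lit 0, nat_lit 0, nat_lit 19), (nat_lit 0, nat_lit 0, nat_lit 25), (nat_lit 0, nat_lit 0, nat_lit 25), (nat_lit 0, nat_lit 0, nat_lit 24), (nat_lit 0, nat_lit 0, nat_lit 28), (nat_lit 0, nat_lit 0, nat_lit 25),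 (nat_lit 0, nat_lit 0, nat_lit 25), (nat_lit 0, nat_lit 0, nat_lit 29), (nat_lit 0, nat_lit 25, nat_lit 24), (nat_lit 0, nat_lit 0, nat_lit 26), (nat_lit 0, nat_lit 0, nat_lit 25), (nat_lit 0, nat_lit 0, nat_lit 3), (nat_lit 0, nat_lit 33, nat_lit 30), (nat_lit 0, nat_lit 0, nat_lit 32), (nat_lit 0, nat_lit 0, nat_lit 39), (nat_lit 0, nat_lit 0, nat_lit 33), (nat_lit 0, nat_lit 0, nat_lit 38), (nat_lit 0, nat_lit 0, nat_lit 36), (nat_lit 0, nat_lit 0, nat_lit 37), (nat_lit 0, nat_lit 36, nat_lit 33), (nat_lit 0, nat_lit 0, nat_lit 1), (nat_lit 1, nat_lit 23, nat_lit 0), (nat_lit 1, nat_lit 10, nat_lit 0), (nat_lit 1, nat_lit 2, nat_lit 0), (nat_lit 0, nat_lit 12, nat_lit 12), (nat_lit 0, nat_lit 3, nat_lit 2), (nat_lit 0, nat_lit 28, nat_lit 14), (nat_lit 0, nat_lit 0, nat_lit 15), (nat_lit 0, nat_lit 0, nat_lit 16), (nat_lit 0, nat_lit 0, nat_lit 8), (nat_lit 0, nat_lit 0, nat_lit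 32), (nat_lit 0, nat_lit 0, nat_lit 19), (nat_lit 0, nat_lit 0, nat_lit 34), (nat_lit 0, nat_lit 0, nat_lit 21), (nat_lit 0, nat_lit 0, nat_lit 13), (nat_lit 0, nat_lit 0, nat_lit 14), (nat_lit 0, nat_lit 0, nat_lit 15), (nat_lit 0, nat_lit 11, nat_lit 15), (nat_lit 0, nat_lit 0, nat_lit 14), (nat_lit 0, nat_lit 0, nat_lit 2), (nat_lit 0, nat_lit 19, nat_lit 19), (nat_lit 0, nat_lit 0, nat_lit 43), (nat_lit 0, nat_lit 0, nat_lit 44), (nat_lit 0, nat_lit 0, nat_lit 22), (nat_lit 0, nat_lit 0, nat_lit 46), (nat_lit 0, nat_lit 0, nat_lit 47), (nat_lit 0, nat_lit 0, nat_lit 48), (nat_lit 0, nat_lit 0, nat_lit 26), (nat_lit 0, nat_lit 0, nat_lit 27), (nat_lit 0, nat_lit 27, nat_lit 0), (nat_lit 0, nat_lit 52, nat_lit 29), (nat_lit 0, nat_lit 0, nat_lit 39), (nat_lit 0, nat_lit 0, nat_lit 31), (nat_lit 0, nat_lit 0, nat_lit 41), (nat_lit 0, nat_lit 0, nat_lit 42), (nat_lit 0, nat_lit 0,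 nat_lit 43), (nat_lit 0, nat_lit 0, nat_lit 35), (nat_lit 0, nat_lit 0, nat_lit 36), (nat_lit 0, nat_lit 0, nat_lit 37), (nat_lit 0, nat_lit 21, nat_lit 36), (nat_lit 0, nat_lit 0, nat_lit 37), (nat_lit 0, nat_lit 0, nat_lit 2), (nat_lit 0, nat_lit 11, nat_lit 64), (nat_lit 0, nat_lit 0, nat_lit 51), (nat_lit 0, nat_lit 0, nat_lit 66), (nat_lit 0, nat_lit 0, nat_lit 53), (nat_lit 0, nat_lit 0, nat_lit 54), (nat_lit 0, nat_lit 0, nat_lit 46), (nat_lit 0, nat_lit 0, nat_lit 47), (nat_lit 0, nat_lit 0, nat_lit 71), (nat_lit 0, nat_lit 0, nat_lit 49), (nat_lit 0, nat_lit 0, nat_lit 59), (nat_lit 0, nat_lit 12, nat_lit 50), (nat_lit 0, nat_lit 0, nat_lit 50), (nat_lit 0, nat_lit 0, nat_lit 51), (nat_lit 0, nat_lit 0, nat_lit 3), (nat_lit 0, nat_lit 51, nat_lit 64), (nat_lit 0, nat_lit 0, nat_lit 79), (nat_lit 0, nat_lit 0, nat_lit 57), (nat_lit 0, nat_lit 0, nat_lit 58), (nat_lit 0, nat_lit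 0, nat_lit 59), (nat_lit 0, nat_lit 0, nat_lit 60), (nat_lit 0, nat_lit 0, nat_lit 70), (nat_lit 0, nat_lit 60, nat_lit 60), (nat_lit 0, nat_lit 0, nat_lit 61), (nat_lit 0, nat_lit 0, nat_lit 62), (nat_lit 0, nat_lit 0, nat_lit 3), (nat_lit 1, nat_lit 47, nat_lit 0), (nat_lit 1, nat_lit 38, nat_lit 0), (nat_lit 1, nat_lit 2, nat_lit 0), (nat_lit 0, nat_lit 14, nat_lit 40), (nat_lit 0, nat_lit 0, nat_lit 41), (nat_lit 0, nat_lit 0, nat_lit 5), (nat_lit 0, nat_lit 5, nat_lit 3), (nat_lit 0, nat_lit 0, nat_lit 1), (nat_lit 0, nat_lit 8, nat_lit 55), (nat_lit 0, nat_lit 0, nat_lit 9), (nat_lit 0, nat_lit 0, nat_lit 35), (nat_lit 0, nat_lit 0, nat_lit 58), (nat_lit 0, nat_lit 0, nat_lit 59), (nat_lit 0, nat_lit 11, nat_lit 0), (nat_lit 1, nat_lit 6, nat_lit 0), (nat_lit 1, nat_lit 1, nat_lit 0), (nat_lit 0, nat_lit 8, nat_lit 2), (nat_lit 0, nat_lit 0, nat_lit 9), (nat_lit 0, nat_lit 0,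 nat_lit 4), (nat_lit 0, nat_lit 4, nat_lit 3), (nat_lit 0, nat_lit 0, nat_lit 5), (nat_lit 0, nat_lit 0, nat_lit 2), (nat_lit 0, nat_lit 14, nat_lit 14), (nat_lit 0, nat_lit 0, nat_lit 15), (nat_lit 0, nat_lit 0, nat_lit 10), (nat_lit 0, nat_lit 0, nat_lit 11), (nat_lit 0, nat_lit 0, nat_lit 18), (nat_lit 0, nat_lit 0, nat_lit 19), (nat_lit 0, nat_lit 0, nat_lit 20), (nat_lit 0, nat_lit 14, nat_lit 14), (nat_lit 0, nat_lit 0, nat_lit 15), (nat_lit 0, nat_lit 0, nat_lit 16), (nat_lit 0, nat_lit 0, nat_lit 3), (nat_lit 0, nat_lit 19, nat_lit 25), (nat_lit 0, nat_lit 0, nat_lit 20), (nat_lit 0, nat_lit 0, nat_lit 21), (nat_lit 0, nat_lit 0, nat_lit 22), (nat_lit 0, nat_lit 0, nat_lit 23), (nat_lit 0, nat_lit 0, nat_lit 24), (nat_lit 0, nat_lit 0, nat_lit 25), (nat_lit 0, nat_lit 0, nat_lit 32), (nat_lit 0, nat_lit 0, nat_lit 33), (nat_lit 0, nat_lit 0, nat_lit 28), (nat_lit 0, nat_lit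 0, nat_lit 29), (nat_lit 0, nat_lit 14, nat_lit 0), (nat_lit 1, nat_lit 23, nat_lit 0), (nat_lit 0, nat_lit 13, nat_lit 24), (nat_lit 0, nat_lit 0, nat_lit 14), (nat_lit 0, nat_lit 0, nat_lit 26), (nat_lit 0, nat_lit 0, nat_lit 16), (nat_lit 0, nat_lit 0, nat_lit 5), (nat_lit 0, nat_lit 0, nat_lit 6), (nat_lit 0, nat_lit 0, nat_lit 30), (nat_lit 0, nat_lit 0, nat_lit 8), (nat_lit 0, nat_lit 0, nat_lit 21), (nat_lit 0, nat_lit 9, nat_lit 0), (nat_lit 0, nat_lit 34, nat_lit 34), (nat_lit 0, nat_lit 0, nat_lit 24), (nat_lit 0, nat_lit 0, nat_lit 36), (nat_lit 0, nat_lit 0, nat_lit 37), (nat_lit 0, nat_lit 0, nat_lit 15), (nat_lit 0, nat_lit 0, nat_lit 39), (nat_lit 0, nat_lit 16, nat_lit 16), (nat_lit 0, nat_lit 0, nat_lit 1), (nat_lit 1, nat_lit 8, nat_lit 0), (nat_lit 1, nat_lit 1, nat_lit 0), (nat_lit 0, nat_lit 2, nat_lit 2), (nat_lit 0, nat_lit 0, nat_lit 11), (nat_lit 0, nat_lit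 0, nat_lit 4), (nat_lit 0, nat_lit 0, nat_lit 13), (nat_lit 0, nat_lit 0, nat_lit 14), (nat_lit 0, nat_lit 0, nat_lit 7), (nat_lit 0, nat_lit 0, nat_lit 8), (nat_lit 0, nat_lit 0, nat_lit 9), (nat_lit 0, nat_lit 0, nat_lit 18), (nat_lit 0, nat_lit 0, nat_lit 11), (nat_lit 0, nat_lit 0, nat_lit 20), (nat_lit 0, nat_lit 12, nat_lit 12), (nat_lit 0, nat_lit 0, nat_lit 12), (nat_lit 0, nat_lit 0, nat_lit 2)]
def k_s0 : Nat := nat_lit 0x47ee2c72a57078b062f76ec78cdb57b00421237469143b3675cb655067d00c11c238711e2776f4c967cb48f03462c530b9325efb76b76d5a0f6fa5d39d5037f07e156c4e7d21874e9852430650d99542fd4c6691232f26d609f9299071d6345ec944885019765ad57300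
def k_s1 : Nat := nat_lit 0x23427cf1d4089270d5af66dddbf4e1cf9b2e4c78b42c54a12a64ea55d8a54ea55ad5e88e1828388122c69a30589942a5ccc074ede3d7cfdcb85ad97b462c99b06ab9be0b37ed5eb772ef1f1cbbf3edd7a0237220c7851a1c48a481861f424cf953a5cc9a402842270080
def k_s2 : Nat := nat_lit 0x5ed5db16db3978f0b9a3a5fd7df1eeb59b95dd3d70e0d9e326fb79f9c3af2dfd490f28518ae66c2ad29f538eee7c4b132041ab25ed28cea71e3a6ce254c890b05ea551f40b57284ecda2446c98ab58e1bb56c0c207101828b182848d1c3c81328488973058a993408080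
def k_s3 : Nat := nat_lit 0x6ad9d396bd3c79f0dddbc6ddfdfadcb58b259b78f0dec1a335fbb973cc954aa49974e8cea162b4f9b56bba791213b73061c07d1a43d7f1e2b66a9d42b58d19b86ea552d5cc59264abd8203e9119b388909d3c58a9a32449182e4ca101e2848e1a1430c161c4040608080
def k_s4 : Nat := nat_lit 0x75e5e39f6e3dfa6ed3bf66dd5c35e6c39f265c5a31ddb582ddeb37ee56a35ea55a5629cd95425ce933e64585221c6831e23e72fde3d7501db05ecda2d5cddc3164d9aaa52992a750ad6224278e9f408d21c3660b942654b1934488901e305880e2450d1c182840608080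
def k_s5 : Nat := nat_lit 0x75f1dbbf2e7c7a6edfb7869d9ab5e6cf97461c98b1ddc17afdab766e56af56c51a94a9cda13a7ca9726645911a3c2870623e7ef603978e9db368ddc366ac17ad5cc592a529d42b58992a2427d0234878e9c3660b952c64d1426488901e3058914347080e182840608080
def k_s6 : Nat := nat_lit 0x77f1d7b73e9c796fe1b776bd9a7567d197363c98715fc176f5bb966d57b156b53a94694fa13674b99265479116343890613f80f5f3b78e5d386ed5b3368c592f60b96ab58a55284e992a348851203e78e9c3664d173058a9426488901e3470b18284880e182840608080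
noncomputable def k_lev0 : Core.Lev := Core.mkLev k_n k_w k_mask k_L k_maskL k_idc (nat_lit 1) [k_s6, k_s5, k_s4, k_s3, k_s2, k_s1, k_s0] [(nat_lit 102, k_s0, nat_lit 1), (nat_lit 101, k_s6, nat_lit 102), (nat_lit 103, k_s4, nat_lit 102), (nat_lit 98, k_s3, nat_lit 102), (nat_lit 104, k_s5, nat_lit 101), (nat_lit 100, k_s4, nat_lit 101), (nat_lit 114, k_s2, nat_lit 101), (nat_lit 4, k_s0, nat_lit 101), (nat_lit 97, k_s4, nat_lit 103), (nat_lit 90, k_s3, nat_lit 103), (nat_lit 88, k_s0, nat_lit 103), (nat_lit 99, k_s3, nat_lit 98), (nat_lit 117, k_s2, nat_lit 98), (nat_lit 81, k_s0, nat_lit 98), (nat_lit 92, k_s3, nat_lit 104), (nat_lit 110, k_s2, nat_lit 104), (nat_lit 87, k_s0, nat_lit 104), (nat_lit 89, k_s3, nat_lit 100), (nat_lit 93, k_s2, nat_lit 100), (nat_lit 18, k_s0, nat_lit 100), (nat_lit 113, k_s6, nat_lit 114), (nat_lit 119, k_s4, nat_lit 114), (nat_lit 34, k_s1, nat_lit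 114), (nat_lit 65, k_s0, nat_lit 114), (nat_lit 25, k_s2, nat_lit 4), (nat_lit 82, k_s0, nat_lit 97), (nat_lit 95, k_s4, nat_lit 90), (nat_lit 41, k_s1, nat_lit 90), (nat_lit 21, k_s0, nat_lit 90), (nat_lit 86, k_s5, nat_lit 88), (nat_lit 76, k_s3, nat_lit 88), (nat_lit 67, k_s2, nat_lit 88), (nat_lit 91, k_s3, nat_lit 99), (nat_lit 105, k_s2, nat_lit 99), (nat_lit 27, k_s0, nat_lit 99), (nat_lit 118, k_s6, nat_lit 117), (nat_lit 115, k_s4, nat_lit 117), (nat_lit 30, k_s1, nat_lit 117), (nat_lit 14, k_s0, nat_lit 117), (nat_lit 83, k_s5, nat_lit 81), (nat_lit 80, k_s2, nat_lit 81), (nat_lit 94, k_s4, nat_lit 92), (nat_lit 111, k_s2, nat_lit 92), (nat_lit 38, k_s1, nat_lit 92), (nat_lit 109, k_s6, nat_lit 110), (nat_lit 107, k_s1, nat_lit 110), (nat_lit 61, k_s0, nat_lit 110), (nat_lit 74, k_s3, nat_lit 87), (nat_lit 43, k_s1, nat_lit 89), (nat_lit 32, k_s0, nat_lit 89), (nat_lit 37,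 k_s1, nat_lit 93), (nat_lit 78, k_s0, nat_lit 93), (nat_lit 19, k_s3, nat_lit 18), (nat_lit 10, k_s2, nat_lit 18), (nat_lit 116, k_s5, nat_lit 113), (nat_lit 36, k_s1, nat_lit 113), (nat_lit 120, k_s6, nat_lit 119), (nat_lit 108, k_s3, nat_lit 119), (nat_lit 106, k_s2, nat_lit 119), (nat_lit 33, k_s1, nat_lit 119), (nat_lit 31, k_s5, nat_lit 34), (nat_lit 50, k_s2, nat_lit 34), (nat_lit 66, k_s6, nat_lit 65), (nat_lit 68, k_s5, nat_lit 65), (nat_lit 64, k_s2, nat_lit 65), (nat_lit 26, k_s6, nat_lit 25), (nat_lit 23, k_s5, nat_lit 25), (nat_lit 60, k_s2, nat_lit 82), (nat_lit 96, k_s6, nat_lit 95), (nat_lit 42, k_s1, nat_lit 95), (nat_lit 29, k_s0, nat_lit 95), (nat_lit 40, k_s5, nat_lit 41), (nat_lit 46, k_s2, nat_lit 41), (nat_lit 22, k_s4, nat_lit 21), (nat_lit 5, k_s2, nat_lit 21), (nat_lit 85, k_s6, nat_lit 86), (nat_lit 75, k_s2, nat_lit 86), (nat_lit 3, k_s0, nat_lit 86), (nat_lit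 79, k_s3, nat_lit 76), (nat_lit 8, k_s1, nat_lit 76), (nat_lit 57, k_s3, nat_lit 67), (nat_lit 39, k_s1, nat_lit 91), (nat_lit 54, k_s0, nat_lit 105), (nat_lit 11, k_s0, nat_lit 118), (nat_lit 35, k_s4, nat_lit 30), (nat_lit 56, k_s2, nat_lit 30), (nat_lit 13, k_s6, nat_lit 14), (nat_lit 12, k_s5, nat_lit 14), (nat_lit 15, k_s2, nat_lit 14), (nat_lit 84, k_s6, nat_lit 83), (nat_lit 72, k_s2, nat_lit 83), (nat_lit 17, k_s0, nat_lit 83), (nat_lit 77, k_s5, nat_lit 80), (nat_lit 112, k_s6, nat_lit 111), (nat_lit 49, k_s0, nat_lit 111), (nat_lit 47, k_s3, nat_lit 38), (nat_lit 51, k_s2, nat_lit 38), (nat_lit 62, k_s6, nat_lit 61), (nat_lit 73, k_s6, nat_lit 74), (nat_lit 44, k_s6, nat_lit 43), (nat_lit 48, k_s3, nat_lit 37), (nat_lit 52, k_s2, nat_lit 37), (nat_lit 69, k_s1, nat_lit 19), (nat_lit 9, k_s4, nat_lit 10), (nat_lit 71, k_s0, nat_lit 120), (nat_lit 28, k_s3, nat_lit 31), (nat_lit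 55, k_s4, nat_lit 50), (nat_lit 70, k_s4, nat_lit 68), (nat_lit 59, k_s3, nat_lit 68), (nat_lit 20, k_s1, nat_lit 68), (nat_lit 63, k_s6, nat_lit 64), (nat_lit 24, k_s5, nat_lit 26), (nat_lit 45, k_s2, nat_lit 42), (nat_lit 7, k_s0, nat_lit 40), (nat_lit 6, k_s2, nat_lit 22), (nat_lit 2, k_s0, nat_lit 85), (nat_lit 58, k_s6, nat_lit 57), (nat_lit 53, k_s6, nat_lit 54), (nat_lit 16, k_s2, nat_lit 13)]
noncomputable def k_lev1 : Core.Lev := Core.mkLev k_n k_w k_mask k_L k_maskL k_idc (nat_lit 2) [k_s6, k_s5, k_s4, k_s3, k_s2, k_s1] [(nat_lit 28, k_s1, nat_lit 2), (nat_lit 29, k_s3, nat_lit 28), (nat_lit 53, k_s2, nat_lit 28), (nat_lit 36, k_s4, nat_lit 29), (nat_lit 33, k_s3, nat_lit 29), (nat_lit 55, k_s2, nat_lit 29), (nat_lit 116, k_s1, nat_lit 29), (nat_lit 54, k_s6, nat_lit 53), (nat_lit 56, k_s5, nat_lit 53), (nat_lit 52, k_s4, nat_lit 53), (nat_lit 40, k_s3, nat_lit 53), (nat_lit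 47, k_s1, nat_lit 53), (nat_lit 35, k_s6, nat_lit 36), (nat_lit 34, k_s5, nat_lit 36), (nat_lit 32, k_s3, nat_lit 36), (nat_lit 113, k_s1, nat_lit 36), (nat_lit 49, k_s2, nat_lit 33), (nat_lit 119, k_s1, nat_lit 33), (nat_lit 45, k_s1, nat_lit 55), (nat_lit 115, k_s6, nat_lit 116), (nat_lit 114, k_s5, nat_lit 116), (nat_lit 118, k_s4, nat_lit 116), (nat_lit 107, k_s3, nat_lit 116), (nat_lit 109, k_s2, nat_lit 116), (nat_lit 51, k_s4, nat_lit 54), (nat_lit 39, k_s3, nat_lit 54), (nat_lit 27, k_s2, nat_lit 54), (nat_lit 48, k_s4, nat_lit 56), (nat_lit 30, k_s2, nat_lit 56), (nat_lit 43, k_s3, nat_lit 52), (nat_lit 37, k_s2, nat_lit 52), (nat_lit 38, k_s3, nat_lit 40), (nat_lit 94, k_s1, nat_lit 40), (nat_lit 46, k_s5, nat_lit 47), (nat_lit 50, k_s4, nat_lit 47), (nat_lit 31, k_s3, nat_lit 35), (nat_lit 120, k_s1, nat_lit 35), (nat_lit 108, k_s3, nat_lit 119), (nat_lit 106, k_s2, nat_lit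 119), (nat_lit 42, k_s3, nat_lit 45), (nat_lit 105, k_s3, nat_lit 115), (nat_lit 89, k_s2, nat_lit 115), (nat_lit 101, k_s2, nat_lit 114), (nat_lit 117, k_s6, nat_lit 118), (nat_lit 111, k_s3, nat_lit 107), (nat_lit 110, k_s1, nat_lit 107), (nat_lit 112, k_s5, nat_lit 109), (nat_lit 44, k_s3, nat_lit 51), (nat_lit 91, k_s1, nat_lit 39), (nat_lit 41, k_s5, nat_lit 43), (nat_lit 93, k_s1, nat_lit 37), (nat_lit 92, k_s1, nat_lit 38), (nat_lit 96, k_s4, nat_lit 94), (nat_lit 104, k_s3, nat_lit 94), (nat_lit 95, k_s2, nat_lit 108), (nat_lit 99, k_s2, nat_lit 105), (nat_lit 90, k_s6, nat_lit 89), (nat_lit 103, k_s3, nat_lit 89), (nat_lit 102, k_s6, nat_lit 101), (nat_lit 100, k_s4, nat_lit 101), (nat_lit 98, k_s2, nat_lit 117), (nat_lit 97, k_s1, nat_lit 104)]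
noncomputable def k_lev2 : Core.Lev := Core.mkLev k_n k_w k_mask k_L k_maskL k_idc (nat_lit 3) [k_s6, k_s5, k_s4, k_s3, k_s2] [(nat_lit 26, k_s2, nat_lit 3), (nat_lit 25, k_s6, nat_lit 26), (nat_lit 24, k_s5, nat_lit 26), (nat_lit 22, k_s3, nat_lit 26), (nat_lit 23, k_s5, nat_lit 25), (nat_lit 21, k_s3, nat_lit 25), (nat_lit 4, k_s2, nat_lit 25), (nat_lit 20, k_s4, nat_lit 24), (nat_lit 7, k_s2, nat_lit 24), (nat_lit 17, k_s3, nat_lit 22), (nat_lit 6, k_s2, nat_lit 22), (nat_lit 19, k_s4, nat_lit 23), (nat_lit 8, k_s2, nat_lit 23), (nat_lit 18, k_s3, nat_lit 21), (nat_lit 5, k_s2, nat_lit 21), (nat_lit 11, k_s2, nat_lit 20), (nat_lit 14, k_s4, nat_lit 7), (nat_lit 9, k_s2, nat_lit 17), (nat_lit 12, k_s2, nat_lit 19), (nat_lit 13, k_s4, nat_lit 8), (nat_lit 10, k_s2, nat_lit 18), (nat_lit 15, k_s2, nat_lit 14), (nat_lit 16, k_s2, nat_lit 13)]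
noncomputable def k_lev3 : Core.Lev := Core.mkLev k_n k_w k_mask k_L k_maskL k_idc (nat_lit 5) [k_s6, k_s5, k_s4, k_s3] [(nat_lit 8, k_s3, nat_lit 5), (nat_lit 13, k_s4, nat_lit 8), (nat_lit 12, k_s3, nat_lit 8), (nat_lit 14, k_s6, nat_lit 13), (nat_lit 11, k_s5, nat_lit 13), (nat_lit 9, k_s3, nat_lit 13), (nat_lit 10, k_s3, nat_lit 14), (nat_lit 7, k_s4, nat_lit 11), (nat_lit 6, k_s3, nat_lit 9)]
noncomputable def k_lev4 : Core.Lev := Core.mkLev k_n k_w k_mask k_L k_maskL k_idc (nat_lit 7) [k_s6, k_s5, k_s4] [(nat_lit 14, k_s4, nat_lit 7), (nat_lit 13, k_s6, nat_lit 14), (nat_lit 12, k_s5, nat_lit 14), (nat_lit 11, k_s5, nat_lit 13), (nat_lit 9, k_s5, nat_lit 12), (nat_lit 8, k_s4, nat_lit 12), (nat_lit 10, k_s5, nat_lit 11)]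
noncomputable def k_lev5 : Core.Lev := Core.mkLev k_n k_w k_mask k_L k_maskL k_idc (nat_lit 9) [k_s6, k_s5] [(nat_lit 14, k_s5, nat_lit 9), (nat_lit 13, k_s6, nat_lit 14), (nat_lit 12, k_s5, nat_lit 14), (nat_lit 11, k_s5, nat_lit 13), (nat_lit 10, k_s5, nat_lit 11)]
noncomputable def k_lev6 : Core.Lev := Core.mkLev k_n k_w k_mask k_L k_maskL k_idc (nat_lit 11) [k_s6] [(nat_lit 12, k_s6, nat_lit 11)]
noncomputable def k_levels : List Core.Lev := [k_lev0, k_lev1, k_lev2, k_lev3, k_lev4, k_lev5, k_lev6]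

end Cfsg.Agent.Lib.Schur.O8.G2Data
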