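import Cfsg.Agent.Lib.PermComp.Core

/-! # A chain for `Ω₈⁺(2)` on the 256 vectors, generated by a script. -/

set_option autoImplicit false
set_option maxRecDepth 100000

namespace Cfsg.Agent.Lib.Schur.O8.GData

open _root_.Cfsg.Agent.Lib.PermComp

def g_n : Nat := nat_lit 256
def g_w : Nat := nat_lit 8
def g_mask : Nat := nat_lit 255
def g_L : Nat := nat_lit 2048
def g_maskL : Nat := nat_lit 0xffffffffffffffffffffffffffffffffffffffffffffffffffffffffffffffffffffffffffffffffffffffffffffffffffffffffffffffffffffffffffffffffffffffffffffffffffffffffffffffffffffffffffffffffffffffffffffffffffffffffffffffffffffffffffffffffffffffffffffffffffffffffffffffffffffffffffffffffffffffffffffffffffffffffffffffffffffffffffffffffffffffffffffffffffffffffffffffffffffffffffffffffffffffffffffffffffffffffffffffffffffffffffffffffffffffffffffffffffffffffffffffffffffffffffffffffffffffffffffffffffffffffffffffffffffffffffffffff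
def g_idc : Nat := nat_lit 0xfffefdfcfbfaf9f8f7f6f5f4f3f2f1f0efeeedecebeae9e8e7e6e5e4e3e2e1e0dfdedddcdbdad9d8d7d6d5d4d3d2d1d0cfcecdcccbcac9c8c7c6c5c4c3c2c1c0bfbebdbcbbbab9b8b7b6b5b4b3b2b1b0afaeadacabaaa9a8a7a6a5a4a3a2a1a09f9e9d9c9b9a999897969594939291908f8e8d8c8b8a898887868584838281807f7e7d7c7b7a797877767574737271706f6e6d6c6b6a696867666564636261605f5e5d5c5b5a595857565554535251504f4e4d4c4b4a494847464544434241403f3e3d3c3b3a393837363534333231302f2e2d2c2b2a292827262524232221201f1e1d1c1b1a191817161514131211100f0e0d0c0b0a09080706050403020100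
def g_T : List Nat := [nat_lit 0xdedfdddcdadbd9d8d6d7d5d4d2d3d1d0eeefedeceaebe9e8e6e7e5e4e2e3e1e0fefffdfcfafbf9f8f6f7f5f4f2f3f1f0cecfcdcccacbc9c8c6c7c5c4c2c3c1c09e9f9d9c9a9b99989697959492939190aeafadacaaaba9a8a6a7a5a4a2a3a1a0bebfbdbcbabbb9b8b6b7b5b4b2b3b1b08e8f8d8c8a8b898886878584828381805e5f5d5c5a5b595856575554525351506e6f6d6c6a6b696866676564626361607e7f7d7c7a7b797876777574727371704e4f4d4c4a4b494846474544424341401e1f1d1c1a1b191816171514121311102e2f2d2c2a2b292826272524222321203e3f3d3c3a3b393836373534323331300e0f0d0c0a0b09080607050402030100, nat_lit 0xedeeefece9eaebe8e5e6e7e4e1e2e3e0fdfefffcf9fafbf8f5f6f7f4f1f2f3f0dddedfdcd9dadbd8d5d6d7d4d1d2d3d0cdcecfccc9cacbc8c5c6c7c4c1c2c3c0adaeafaca9aaaba8a5a6a7a4a1a2a3a0bdbebfbcb9babbb8b5b6b7b4b1b2b3b09d9e9f9c999a9b9895969794919293908d8e8f8c898a8b8885868784818283806d6e6f6c696a6b6865666764616263607d7e7f7c797a7b7875767774717273705d5e5f5c595a5b5855565754515253504d4e4f4c494a4b4845464744414243402d2e2f2c292a2b2825262724212223203d3e3f3c393a3b3835363734313233301d1e1f1c191a1b1815161714111213100d0e0f0c090a0b080506070401020300,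 nat_lit 0xbdbcbfbebbbab9b8b5b4b7b6b3b2b1b0adacafaeabaaa9a8a5a4a7a6a3a2a1a0dddcdfdedbdad9d8d5d4d7d6d3d2d1d0cdcccfcecbcac9c8c5c4c7c6c3c2c1c0fdfcfffefbfaf9f8f5f4f7f6f3f2f1f0edecefeeebeae9e8e5e4e7e6e3e2e1e09d9c9f9e9b9a999895949796939291908d8c8f8e8b8a898885848786838281803d3c3f3e3b3a393835343736333231302d2c2f2e2b2a292825242726232221205d5c5f5e5b5a595855545756535251504d4c4f4e4b4a494845444746434241407d7c7f7e7b7a797875747776737271706d6c6f6e6b6a696865646766636261601d1c1f1e1b1a191815141716131211100d0c0f0e0b0a09080504070603020100, nat_lit 0xdbdadddcdfded9d8d3d2d5d4d7d6d1d0cbcacdcccfcec9c8c3c2c5c4c7c6c1c0fbfafdfcfffef9f8f3f2f5f4f7f6f1f0ebeaedecefeee9e8e3e2e5e4e7e6e1e0bbbabdbcbfbeb9b8b3b2b5b4b7b6b1b0abaaadacafaea9a8a3a2a5a4a7a6a1a09b9a9d9c9f9e999893929594979691908b8a8d8c8f8e898883828584878681805b5a5d5c5f5e595853525554575651504b4a4d4c4f4e494843424544474641407b7a7d7c7f7e797873727574777671706b6a6d6c6f6e696863626564676661603b3a3d3c3f3e393833323534373631302b2a2d2c2f2e292823222524272621201b1a1d1c1f1e191813121514171611100b0a0d0c0f0e09080302050407060100,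 nat_lit 0x7b7a79787f7e7d7c77767574737271706b6a69686f6e6d6c67666564636261605b5a59585f5e5d5c57565554535251504b4a49484f4e4d4c4746454443424140bbbab9b8bfbebdbcb7b6b5b4b3b2b1b0abaaa9a8afaeadaca7a6a5a4a3a2a1a09b9a99989f9e9d9c97969594939291908b8a89888f8e8d8c8786858483828180fbfaf9f8fffefdfcf7f6f5f4f3f2f1f0ebeae9e8efeeedece7e6e5e4e3e2e1e0dbdad9d8dfdedddcd7d6d5d4d3d2d1d0cbcac9c8cfcecdccc7c6c5c4c3c2c1c03b3a39383f3e3d3c37363534333231302b2a29282f2e2d2c27262524232221201b1a19181f1e1d1c17161514131211100b0a09080f0e0d0c0706050403020100, nat_lit 0xb7b6b5b4bbbab9b8bfbebdbcb3b2b1b0a7a6a5a4abaaa9a8afaeadaca3a2a1a0979695949b9a99989f9e9d9c93929190878685848b8a89888f8e8d8c83828180f7f6f5f4fbfaf9f8fffefdfcf3f2f1f0e7e6e5e4ebeae9e8efeeedece3e2e1e0d7d6d5d4dbdad9d8dfdedddcd3d2d1d0c7c6c5c4cbcac9c8cfcecdccc3c2c1c0777675747b7a79787f7e7d7c73727170676665646b6a69686f6e6d6c63626160575655545b5a59585f5e5d5c53525150474645444b4a49484f4e4d4c43424140373635343b3a39383f3e3d3c33323130272625242b2a29282f2e2d2c23222120171615141b1a19181f1e1d1c13121110070605040b0a09080f0e0d0c03020100,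 nat_lit 0xf3f2f1f0f7f6f5f4fbfaf9f8fffefdfce3e2e1e0e7e6e5e4ebeae9e8efeeedecd3d2d1d0d7d6d5d4dbdad9d8dfdedddcc3c2c1c0c7c6c5c4cbcac9c8cfcecdccbbbab9b8bfbebdbcb3b2b1b0b7b6b5b4abaaa9a8afaeadaca3a2a1a0a7a6a5a49b9a99989f9e9d9c93929190979695948b8a89888f8e8d8c838281808786858477767574737271707f7e7d7c7b7a797867666564636261606f6e6d6c6b6a696857565554535251505f5e5d5c5b5a595847464544434241404f4e4d4c4b4a49483f3e3d3c3b3a393837363534333231302f2e2d2c2b2a292827262524232221201f1e1d1c1b1a191817161514131211100f0e0d0c0b0a09080706050403020100, nat_lit 0x3f3e3d3cbbbab9b877767574f3f2f1f02f2e2d2cabaaa9a867666564e3e2e1e01f1e1d1c9b9a999857565554d3d2d1d00f0e0d0c8b8a898847464544c3c2c1c07f7e7d7cfbfaf9f837363534b3b2b1b06f6e6d6cebeae9e827262524a3a2a1a05f5e5d5cdbdad9d817161514939291904f4e4d4ccbcac9c80706050483828180bfbebdbc3b3a3938f7f6f5f473727170afaeadac2b2a2928e7e6e5e4636261609f9e9d9c1b1a1918d7d6d5d4535251508f8e8d8c0b0a0908c7c6c5c443424140fffefdfc7b7a7978b7b6b5b433323130efeeedec6b6a6968a7a6a5a423222120dfdedddc5b5a59589796959413121110cfcecdcc4b4a49488786858403020100]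
def g_prog : List (Nat × Nat × Nat) := [(nat_lit 1, nat_lit 7, nat_lit 0), (nat_lit 1, nat_lit 5, nat_lit 0), (nat_lit 1, nat_lit 8, nat_lit 0), (nat_lit 1, nat_lit 5, nat_lit 0), (nat_lit 1, nat_lit 4, nat_lit 0), (nat_lit 0, nat_lit 10, nat_lit 8), (nat_lit 0, nat_lit 0, nat_lit 12), (nat_lit 0, nat_lit 0, nat_lit 7), (nat_lit 0, nat_lit 0, nat_lit 8), (nat_lit 0, nat_lit 9, nat_lit 13), (nat_lit 0, nat_lit 0, nat_lit 16), (nat_lit 0, nat_lit 0, nat_lit 11), (nat_lit 0, nat_lit 0, nat_lit 19), (nat_lit 0, nat_lit 0, nat_lit 14), (nat_lit 0, nat_lit 0, nat_lit 15), (nat_lit 0, nat_lit 0, nat_lit 22), (nat_lit 0, nat_lit 0, nat_lit 16), (nat_lit 0, nat_lit 0, nat_lit 20), (nat_lit 0, nat_lit 16, nat_lit 13), (nat_lit 0, nat_lit 0, nat_lit 1), (nat_lit 0, nat_lit 24, nat_lit 22), (nat_lit 0, nat_lit 0, nat_lit 28), (nat_lit 0, nat_lit 0, nat_lit 29), (nat_lit 0, nat_lit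 0, nat_lit 30), (nat_lit 0, nat_lit 23, nat_lit 22), (nat_lit 0, nat_lit 0, nat_lit 1), (nat_lit 0, nat_lit 33, nat_lit 30), (nat_lit 0, nat_lit 0, nat_lit 28), (nat_lit 0, nat_lit 0, nat_lit 35), (nat_lit 0, nat_lit 0, nat_lit 33), (nat_lit 0, nat_lit 0, nat_lit 30), (nat_lit 0, nat_lit 0, nat_lit 31), (nat_lit 0, nat_lit 0, nat_lit 36), (nat_lit 0, nat_lit 0, nat_lit 35), (nat_lit 0, nat_lit 0, nat_lit 38), (nat_lit 0, nat_lit 33, nat_lit 31), (nat_lit 0, nat_lit 0, nat_lit 34), (nat_lit 0, nat_lit 0, nat_lit 2), (nat_lit 0, nat_lit 42, nat_lit 41), (nat_lit 0, nat_lit 0, nat_lit 46), (nat_lit 0, nat_lit 0, nat_lit 41), (nat_lit 0, nat_lit 0, nat_lit 47), (nat_lit 0, nat_lit 0, nat_lit 47), (nat_lit 0, nat_lit 0, nat_lit 46), (nat_lit 0, nat_lit 0, nat_lit 50), (nat_lit 0, nat_lit 0, nat_lit 47), (nat_lit 0, nat_lit 0, nat_lit 47), (nat_lit 0, nat_lit 0, nat_lit 51),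 (nat_lit 0, nat_lit 23, nat_lit 44), (nat_lit 0, nat_lit 0, nat_lit 47), (nat_lit 0, nat_lit 0, nat_lit 2), (nat_lit 0, nat_lit 54, nat_lit 51), (nat_lit 0, nat_lit 0, nat_lit 53), (nat_lit 0, nat_lit 0, nat_lit 60), (nat_lit 0, nat_lit 0, nat_lit 54), (nat_lit 0, nat_lit 0, nat_lit 59), (nat_lit 0, nat_lit 0, nat_lit 57), (nat_lit 0, nat_lit 0, nat_lit 58), (nat_lit 0, nat_lit 33, nat_lit 53), (nat_lit 0, nat_lit 0, nat_lit 57), (nat_lit 0, nat_lit 0, nat_lit 2), (nat_lit 0, nat_lit 66, nat_lit 63), (nat_lit 0, nat_lit 0, nat_lit 68), (nat_lit 0, nat_lit 0, nat_lit 63), (nat_lit 0, nat_lit 0, nat_lit 70), (nat_lit 0, nat_lit 0, nat_lit 70), (nat_lit 0, nat_lit 0, nat_lit 67), (nat_lit 0, nat_lit 0, nat_lit 69), (nat_lit 0, nat_lit 0, nat_lit 68), (nat_lit 0, nat_lit 76, nat_lit 76), (nat_lit 0, nat_lit 0, nat_lit 73), (nat_lit 0, nat_lit 0, nat_lit 72), (nat_lit 0, nat_lit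 0, nat_lit 77), (nat_lit 0, nat_lit 0, nat_lit 78), (nat_lit 0, nat_lit 0, nat_lit 78), (nat_lit 0, nat_lit 0, nat_lit 82), (nat_lit 0, nat_lit 0, nat_lit 80), (nat_lit 0, nat_lit 0, nat_lit 81), (nat_lit 0, nat_lit 0, nat_lit 79), (nat_lit 0, nat_lit 54, nat_lit 0), (nat_lit 0, nat_lit 82, nat_lit 80), (nat_lit 0, nat_lit 0, nat_lit 84), (nat_lit 0, nat_lit 0, nat_lit 89), (nat_lit 0, nat_lit 0, nat_lit 84), (nat_lit 0, nat_lit 0, nat_lit 89), (nat_lit 0, nat_lit 0, nat_lit 89), (nat_lit 0, nat_lit 0, nat_lit 87), (nat_lit 0, nat_lit 0, nat_lit 94), (nat_lit 0, nat_lit 63, nat_lit 85), (nat_lit 0, nat_lit 0, nat_lit 85), (nat_lit 0, nat_lit 0, nat_lit 85), (nat_lit 0, nat_lit 0, nat_lit 3), (nat_lit 1, nat_lit 83, nat_lit 0), (nat_lit 1, nat_lit 1, nat_lit 0), (nat_lit 1, nat_lit 68, nat_lit 0), (nat_lit 1, nat_lit 26, nat_lit 0), (nat_lit 0, nat_lit 16, nat_lit 4), (nat_lit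 0, nat_lit 0, nat_lit 59), (nat_lit 0, nat_lit 0, nat_lit 6), (nat_lit 0, nat_lit 0, nat_lit 30), (nat_lit 0, nat_lit 0, nat_lit 20), (nat_lit 0, nat_lit 0, nat_lit 40), (nat_lit 0, nat_lit 0, nat_lit 33), (nat_lit 0, nat_lit 0, nat_lit 42), (nat_lit 0, nat_lit 10, nat_lit 10), (nat_lit 0, nat_lit 0, nat_lit 1), (nat_lit 0, nat_lit 97, nat_lit 14), (nat_lit 0, nat_lit 0, nat_lit 46), (nat_lit 0, nat_lit 0, nat_lit 28), (nat_lit 0, nat_lit 0, nat_lit 100), (nat_lit 0, nat_lit 0, nat_lit 72), (nat_lit 0, nat_lit 0, nat_lit 85), (nat_lit 0, nat_lit 0, nat_lit 20), (nat_lit 0, nat_lit 0, nat_lit 87), (nat_lit 0, nat_lit 0, nat_lit 94), (nat_lit 0, nat_lit 0, nat_lit 23), (nat_lit 0, nat_lit 0, nat_lit 65), (nat_lit 0, nat_lit 24, nat_lit 23), (nat_lit 0, nat_lit 0, nat_lit 23), (nat_lit 0, nat_lit 0, nat_lit 23), (nat_lit 0, nat_lit 0, nat_lit 26), (nat_lit 0, nat_lit 0, nat_lit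 4), (nat_lit 0, nat_lit 113, nat_lit 102), (nat_lit 0, nat_lit 0, nat_lit 114), (nat_lit 0, nat_lit 0, nat_lit 44), (nat_lit 0, nat_lit 0, nat_lit 116), (nat_lit 0, nat_lit 75, nat_lit 75), (nat_lit 0, nat_lit 0, nat_lit 107), (nat_lit 0, nat_lit 0, nat_lit 102), (nat_lit 0, nat_lit 0, nat_lit 68), (nat_lit 0, nat_lit 0, nat_lit 79), (nat_lit 0, nat_lit 0, nat_lit 111), (nat_lit 0, nat_lit 106, nat_lit 81), (nat_lit 0, nat_lit 0, nat_lit 41), (nat_lit 0, nat_lit 0, nat_lit 108), (nat_lit 0, nat_lit 0, nat_lit 84), (nat_lit 0, nat_lit 0, nat_lit 85), (nat_lit 0, nat_lit 43, nat_lit 42), (nat_lit 0, nat_lit 0, nat_lit 1), (nat_lit 0, nat_lit 59, nat_lit 59), (nat_lit 0, nat_lit 0, nat_lit 60), (nat_lit 0, nat_lit 0, nat_lit 121), (nat_lit 0, nat_lit 0, nat_lit 133), (nat_lit 0, nat_lit 0, nat_lit 92), (nat_lit 0, nat_lit 0, nat_lit 75), (nat_lit 0, nat_lit 0, nat_lit 84),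 (nat_lit 0, nat_lit 0, nat_lit 77), (nat_lit 0, nat_lit 109, nat_lit 127), (nat_lit 0, nat_lit 0, nat_lit 97), (nat_lit 0, nat_lit 0, nat_lit 57), (nat_lit 0, nat_lit 0, nat_lit 112), (nat_lit 0, nat_lit 0, nat_lit 82), (nat_lit 0, nat_lit 0, nat_lit 143), (nat_lit 0, nat_lit 0, nat_lit 115), (nat_lit 0, nat_lit 36, nat_lit 0), (nat_lit 1, nat_lit 49, nat_lit 0), (nat_lit 1, nat_lit 34, nat_lit 0), (nat_lit 1, nat_lit 31, nat_lit 0), (nat_lit 1, nat_lit 26, nat_lit 0), (nat_lit 1, nat_lit 12, nat_lit 0), (nat_lit 0, nat_lit 54, nat_lit 38), (nat_lit 0, nat_lit 0, nat_lit 55), (nat_lit 0, nat_lit 0, nat_lit 15), (nat_lit 0, nat_lit 0, nat_lit 41), (nat_lit 0, nat_lit 0, nat_lit 32), (nat_lit 0, nat_lit 0, nat_lit 18), (nat_lit 0, nat_lit 0, nat_lit 27), (nat_lit 0, nat_lit 0, nat_lit 20), (nat_lit 0, nat_lit 0, nat_lit 36), (nat_lit 0, nat_lit 9, nat_lit 0), (nat_lit 0,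 nat_lit 31, nat_lit 23), (nat_lit 0, nat_lit 0, nat_lit 16), (nat_lit 0, nat_lit 0, nat_lit 25), (nat_lit 0, nat_lit 0, nat_lit 34), (nat_lit 0, nat_lit 0, nat_lit 42), (nat_lit 0, nat_lit 0, nat_lit 53), (nat_lit 0, nat_lit 17, nat_lit 19), (nat_lit 0, nat_lit 0, nat_lit 1), (nat_lit 0, nat_lit 39, nat_lit 46), (nat_lit 0, nat_lit 0, nat_lit 32), (nat_lit 0, nat_lit 0, nat_lit 41), (nat_lit 0, nat_lit 24, nat_lit 23), (nat_lit 0, nat_lit 0, nat_lit 1), (nat_lit 0, nat_lit 28, nat_lit 36), (nat_lit 0, nat_lit 0, nat_lit 37), (nat_lit 0, nat_lit 0, nat_lit 53), (nat_lit 0, nat_lit 0, nat_lit 80), (nat_lit 0, nat_lit 0, nat_lit 40), (nat_lit 0, nat_lit 0, nat_lit 62), (nat_lit 0, nat_lit 0, nat_lit 67), (nat_lit 0, nat_lit 0, nat_lit 68), (nat_lit 0, nat_lit 35, nat_lit 32), (nat_lit 0, nat_lit 0, nat_lit 36), (nat_lit 0, nat_lit 0, nat_lit 2), (nat_lit 0, nat_lit 88, nat_lit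 88), (nat_lit 0, nat_lit 0, nat_lit 40), (nat_lit 0, nat_lit 0, nat_lit 90), (nat_lit 0, nat_lit 0, nat_lit 71), (nat_lit 0, nat_lit 0, nat_lit 72), (nat_lit 0, nat_lit 0, nat_lit 52), (nat_lit 0, nat_lit 0, nat_lit 78), (nat_lit 0, nat_lit 45, nat_lit 44), (nat_lit 0, nat_lit 0, nat_lit 1), (nat_lit 0, nat_lit 71, nat_lit 81), (nat_lit 0, nat_lit 0, nat_lit 98), (nat_lit 0, nat_lit 0, nat_lit 66), (nat_lit 0, nat_lit 0, nat_lit 51), (nat_lit 0, nat_lit 0, nat_lit 101), (nat_lit 0, nat_lit 0, nat_lit 69), (nat_lit 0, nat_lit 0, nat_lit 54), (nat_lit 0, nat_lit 53, nat_lit 51), (nat_lit 0, nat_lit 0, nat_lit 1), (nat_lit 1, nat_lit 42, nat_lit 0), (nat_lit 1, nat_lit 30, nat_lit 0), (nat_lit 1, nat_lit 2, nat_lit 0), (nat_lit 0, nat_lit 37, nat_lit 37), (nat_lit 0, nat_lit 0, nat_lit 4), (nat_lit 0, nat_lit 0, nat_lit 14), (nat_lit 0, nat_lit 0, nat_lit 15), (nat_lit 0,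 nat_lit 0, nat_lit 49), (nat_lit 0, nat_lit 0, nat_lit 26), (nat_lit 0, nat_lit 0, nat_lit 43), (nat_lit 0, nat_lit 0, nat_lit 39), (nat_lit 0, nat_lit 0, nat_lit 53), (nat_lit 0, nat_lit 0, nat_lit 46), (nat_lit 0, nat_lit 11, nat_lit 10), (nat_lit 0, nat_lit 0, nat_lit 1), (nat_lit 0, nat_lit 24, nat_lit 24), (nat_lit 0, nat_lit 0, nat_lit 50), (nat_lit 0, nat_lit 0, nat_lit 35), (nat_lit 0, nat_lit 0, nat_lit 60), (nat_lit 0, nat_lit 0, nat_lit 19), (nat_lit 0, nat_lit 0, nat_lit 38), (nat_lit 0, nat_lit 0, nat_lit 50), (nat_lit 0, nat_lit 0, nat_lit 31), (nat_lit 0, nat_lit 0, nat_lit 41), (nat_lit 0, nat_lit 21, nat_lit 0), (nat_lit 0, nat_lit 67, nat_lit 34), (nat_lit 0, nat_lit 0, nat_lit 44), (nat_lit 0, nat_lit 0, nat_lit 56), (nat_lit 0, nat_lit 0, nat_lit 70), (nat_lit 0, nat_lit 0, nat_lit 63), (nat_lit 0, nat_lit 0, nat_lit 64), (nat_lit 0, nat_lit 0, nat_lit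 60), (nat_lit 0, nat_lit 0, nat_lit 41), (nat_lit 0, nat_lit 67, nat_lit 51), (nat_lit 0, nat_lit 0, nat_lit 68), (nat_lit 0, nat_lit 0, nat_lit 64), (nat_lit 0, nat_lit 0, nat_lit 36), (nat_lit 0, nat_lit 0, nat_lit 79), (nat_lit 0, nat_lit 0, nat_lit 56), (nat_lit 0, nat_lit 0, nat_lit 48), (nat_lit 0, nat_lit 0, nat_lit 69), (nat_lit 0, nat_lit 27, nat_lit 0), (nat_lit 0, nat_lit 42, nat_lit 60), (nat_lit 0, nat_lit 0, nat_lit 52), (nat_lit 0, nat_lit 0, nat_lit 78), (nat_lit 0, nat_lit 0, nat_lit 87), (nat_lit 0, nat_lit 0, nat_lit 46), (nat_lit 0, nat_lit 0, nat_lit 89), (nat_lit 0, nat_lit 0, nat_lit 90), (nat_lit 0, nat_lit 0, nat_lit 83), (nat_lit 0, nat_lit 0, nat_lit 84), (nat_lit 0, nat_lit 0, nat_lit 85), (nat_lit 0, nat_lit 0, nat_lit 61), (nat_lit 0, nat_lit 52, nat_lit 0), (nat_lit 0, nat_lit 88, nat_lit 83), (nat_lit 0, nat_lit 0, nat_lit 64), (nat_lit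 0, nat_lit 0, nat_lit 65), (nat_lit 0, nat_lit 0, nat_lit 86), (nat_lit 0, nat_lit 0, nat_lit 87), (nat_lit 0, nat_lit 0, nat_lit 88), (nat_lit 0, nat_lit 0, nat_lit 89), (nat_lit 0, nat_lit 59, nat_lit 0), (nat_lit 0, nat_lit 104, nat_lit 96), (nat_lit 0, nat_lit 0, nat_lit 72), (nat_lit 0, nat_lit 0, nat_lit 64), (nat_lit 0, nat_lit 0, nat_lit 83), (nat_lit 0, nat_lit 0, nat_lit 100), (nat_lit 0, nat_lit 0, nat_lit 76), (nat_lit 0, nat_lit 0, nat_lit 77), (nat_lit 0, nat_lit 55, nat_lit 0), (nat_lit 1, nat_lit 55, nat_lit 0), (nat_lit 1, nat_lit 29, nat_lit 0), (nat_lit 1, nat_lit 10, nat_lit 0), (nat_lit 0, nat_lit 3, nat_lit 40), (nat_lit 0, nat_lit 0, nat_lit 59), (nat_lit 0, nat_lit 0, nat_lit 33), (nat_lit 0, nat_lit 0, nat_lit 61), (nat_lit 0, nat_lit 4, nat_lit 0), (nat_lit 0, nat_lit 36, nat_lit 8), (nat_lit 0, nat_lit 0, nat_lit 54), (nat_lit 0, nat_lit 0, nat_lit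 47), (nat_lit 0, nat_lit 0, nat_lit 66), (nat_lit 0, nat_lit 0, nat_lit 28), (nat_lit 0, nat_lit 12, nat_lit 11), (nat_lit 0, nat_lit 0, nat_lit 1), (nat_lit 0, nat_lit 31, nat_lit 70), (nat_lit 0, nat_lit 0, nat_lit 32), (nat_lit 0, nat_lit 0, nat_lit 33), (nat_lit 0, nat_lit 0, nat_lit 63), (nat_lit 0, nat_lit 0, nat_lit 35), (nat_lit 0, nat_lit 0, nat_lit 75), (nat_lit 0, nat_lit 0, nat_lit 58), (nat_lit 0, nat_lit 0, nat_lit 59), (nat_lit 0, nat_lit 0, nat_lit 60), (nat_lit 0, nat_lit 23, nat_lit 0), (nat_lit 1, nat_lit 17, nat_lit 0), (nat_lit 0, nat_lit 1, nat_lit 18), (nat_lit 0, nat_lit 0, nat_lit 12), (nat_lit 0, nat_lit 0, nat_lit 13), (nat_lit 0, nat_lit 0, nat_lit 21), (nat_lit 0, nat_lit 0, nat_lit 22), (nat_lit 0, nat_lit 0, nat_lit 16), (nat_lit 0, nat_lit 0, nat_lit 24), (nat_lit 0, nat_lit 0, nat_lit 8), (nat_lit 0, nat_lit 0, nat_lit 9), (nat_lit 0, nat_lit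 0, nat_lit 27), (nat_lit 0, nat_lit 0, nat_lit 28), (nat_lit 0, nat_lit 11, nat_lit 0)]
def g_s0 : Nat := nat_lit 0xdedfdddcdadbd9d8d6d7d5d4d2d3d1d0eeefedeceaebe9e8e6e7e5e4e2e3e1e0fefffdfcfafbf9f8f6f7f5f4f2f3f1f0cecfcdcccacbc9c8c6c7c5c4c2c3c1c09e9f9d9c9a9b99989697959492939190aeafadacaaaba9a8a6a7a5a4a2a3a1a0bebfbdbcbabbb9b8b6b7b5b4b2b3b1b08e8f8d8c8a8b898886878584828381805e5f5d5c5a5b595856575554525351506e6f6d6c6a6b696866676564626361607e7f7d7c7a7b797876777574727371704e4f4d4c4a4b494846474544424341401e1f1d1c1a1b191816171514121311102e2f2d2c2a2b292826272524222321203e3f3d3c3a3b393836373534323331300e0f0d0c0a0b09080607050402030100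
def g_s1 : Nat := nat_lit 0xb0b6b2b4b5b3b7b1bcbabeb8b9bfbbbd6c6a6e68696f6b6d60666264656367614c4a4e48494f4b4d404642444543474190969294959397919c9a9e98999f9b9dacaaaea8a9afabada0a6a2a4a5a3a7a170767274757377717c7a7e78797f7b7d50565254555357515c5a5e58595f5b5d8c8a8e88898f8b8d808682848583878131373335343236303d3b3f39383e3a3cedebefe9e8eeeaece1e7e3e5e4e2e6e0cdcbcfc9c8cecaccc1c7c3c5c4c2c6c011171315141216101d1b1f19181e1a1c2d2b2f29282e2a2c2127232524222620f1f7f3f5f4f2f6f0fdfbfff9f8fefafcd1d7d3d5d4d2d6d0dddbdfd9d8dedadc0d0b0f09080e0a0c0107030504020600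
def g_s2 : Nat := nat_lit 0x3736353477767574b5b4b7b6f5f4f7f62726252467666564a5a4a7a6e5e4e7e61f1e1d1c5f5e5d5c9d9c9f9edddcdfde0f0e0d0c4f4e4d4c8d8c8f8ecdcccfceb1b0b3b2f1f0f3f23332313073727170a1a0a3a2e1e0e3e2232221206362616099989b9ad9d8dbda1b1a19185b5a595889888b8ac9c8cbca0b0a09084b4a49487f7e7d7c3f3e3d3cfdfcfffebdbcbfbe6f6e6d6c2f2e2d2cedecefeeadacafae5756555417161514d5d4d7d6959497964746454407060504c5c4c7c685848786f9f8fbfab9b8bbba7b7a79783b3a3938e9e8ebeaa9a8abaa6b6a69682b2a2928d1d0d3d2919093925352515013121110c1c0c3c2818083824342414003020100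
def g_s3 : Nat := nat_lit 0xb4b5b6b7bbbab9b8bcbdbebfb3b2b1b0eeefecede1e0e3e2e6e7e4e5e9e8ebeadddcdfded2d3d0d1d5d4d7d6dadbd8d98786858488898a8b8f8e8d8c80818283f4f5f6f7fbfaf9f8fcfdfefff3f2f1f0aeafacada1a0a3a2a6a7a4a5a9a8abaa9d9c9f9e92939091959497969a9b9899c7c6c5c4c8c9cacbcfcecdccc0c1c2c37776757478797a7b7f7e7d7c707172732d2c2f2e22232021252427262a2b28291e1f1c1d111013121617141519181b1a444546474b4a49484c4d4e4f434241403736353438393a3b3f3e3d3c303132336d6c6f6e62636061656467666a6b68695e5f5c5d515053525657545559585b5a040506070b0a09080c0d0e0f03020100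
def g_s4 : Nat := nat_lit 0xb0b1b2b3b5b4b7b6b8b9babbbdbcbfbee8e9eaebedecefeee0e1e2e3e5e4e7e695949796909192939d9c9f9e98999a9bcdcccfcec8c9cacbc5c4c7c6c0c1c2c3f2f3f0f1f7f6f5f4fafbf8f9fffefdfcaaaba8a9afaeadaca2a3a0a1a7a6a5a4d7d6d5d4d2d3d0d1dfdedddcdadbd8d98f8e8d8c8a8b88898786858482838081313033323435363739383b3a3c3d3e3f69686b6a6c6d6e6f616063626465666714151617111013121c1d1e1f19181b1a4c4d4e4f49484b4a444546474140434273727170767774757b7a79787e7f7c7d2b2a29282e2f2c2d232221202627242556575455535251505e5f5c5d5b5a59580e0f0c0d0b0a09080607040503020100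
def g_s5 : Nat := nat_lit 0xfffefdfcf8f9fafbf7f6f5f4f0f1f2f3adacafaeaaaba8a9a5a4a7a6a2a3a0a19e9f9c9d99989b9a9697949591909392cccdcecfcbcac9c8c4c5c6c7c3c2c1c0bfbebdbcb8b9babbb7b6b5b4b0b1b2b3edecefeeeaebe8e9e5e4e7e6e2e3e0e1dedfdcddd9d8dbdad6d7d4d5d1d0d3d28c8d8e8f8b8a898884858687838281807f7e7d7c78797a7b77767574707172732d2c2f2e2a2b282925242726222320211e1f1c1d19181b1a16171415111013124c4d4e4f4b4a494844454647434241403f3e3d3c38393a3b37363534303132336d6c6f6e6a6b686965646766626360615e5f5c5d59585b5a56575455515053520c0d0e0f0b0a09080405060703020100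
def g_s6 : Nat := nat_lit 0xf5f4f7f6f1f0f3f2fdfcfffef9f8fbfae5e4e7e6e1e0e3e2edecefeee9e8ebead1d0d3d2d5d4d7d6d9d8dbdadddcdfdec1c0c3c2c5c4c7c6c9c8cbcacdcccfcebfbebdbcbbbab9b8b7b6b5b4b3b2b1b0afaeadacabaaa9a8a7a6a5a4a3a2a1a09b9a99989f9e9d9c93929190979695948b8a89888f8e8d8c8382818087868584717073727574777679787b7a7d7c7f7e616063626564676669686b6a6d6c6f6e55545756515053525d5c5f5e59585b5a45444746414043424d4c4f4e49484b4a3b3a39383f3e3d3c33323130373635342b2a29282f2e2d2c23222120272625241f1e1d1c1b1a191817161514131211100f0e0d0c0b0a09080706050403020100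
def g_s7 : Nat := nat_lit 0xf9f8fbfafdfcfffef1f0f3f2f5f4f7f6efeeedecebeae9e8e7e6e5e4e3e2e1e0d4d5d6d7d0d1d2d3dcdddedfd8d9dadbc2c3c0c1c6c7c4c5cacbc8c9cecfcccdb2b3b0b1b6b7b4b5babbb8b9bebfbcbda4a5a6a7a0a1a2a3acadaeafa8a9aaab9f9e9d9c9b9a9998979695949392919089888b8a8d8c8f8e81808382858487867f7e7d7c7b7a7978777675747372717069686b6a6d6c6f6e616063626564676652535051565754555a5b58595e5f5c5d44454647404142434c4d4e4f48494a4b34353637303132333c3d3e3f38393a3b22232021262724252a2b28292e2f2c2d19181b1a1d1c1f1e11101312151417160f0e0d0c0b0a09080706050403020100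
def g_s8 : Nat := nat_lit 0xf6f7f4f5f2f3f0f1fefffcfdfafbf8f9eeefecedeaebe8e9e6e7e4e5e2e3e0e1dadbd8d9dedfdcddd2d3d0d1d6d7d4d5c2c3c0c1c6c7c4c5cacbc8c9cecfcccdbcbdbebfb8b9babbb4b5b6b7b0b1b2b3a4a5a6a7a0a1a2a3acadaeafa8a9aaab909192939495969798999a9b9c9d9e9f88898a8b8c8d8e8f8081828384858687717073727574777679787b7a7d7c7f7e69686b6a6d6c6f6e61606362656467665d5c5f5e59585b5a555457565150535245444746414043424d4c4f4e49484b4a3b3a39383f3e3d3c333231303736353423222120272625242b2a29282f2e2d2c17161514131211101f1e1d1c1b1a19180f0e0d0c0b0a09080706050403020100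
def g_s9 : Nat := nat_lit 0xfffefdfcfbfaf9f8f7f6f5f4f3f2f1f0e3e2e1e0e7e6e5e4ebeae9e8efeeedecdfdedddcdbdad9d8d7d6d5d4d3d2d1d0c3c2c1c0c7c6c5c4cbcac9c8cfcecdccb6b7b4b5b2b3b0b1bebfbcbdbabbb8b9aaaba8a9aeafacada2a3a0a1a6a7a4a596979495929390919e9f9c9d9a9b98998a8b88898e8f8c8d82838081868784857a7b78797e7f7c7d727370717677747566676465626360616e6f6c6d6a6b68695a5b58595e5f5c5d525350515657545546474445424340414e4f4c4d4a4b484933323130373635343b3a39383f3e3d3c2f2e2d2c2b2a2928272625242322212013121110171615141b1a19181f1e1d1c0f0e0d0c0b0a09080706050403020100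
def g_s10 : Nat := nat_lit 0xf6f7f4f5f2f3f0f1fefffcfdfafbf8f9e2e3e0e1e6e7e4e5eaebe8e9eeefecedd6d7d4d5d2d3d0d1dedfdcdddadbd8d9c2c3c0c1c6c7c4c5cacbc8c9cecfcccdbfbebdbcbbbab9b8b7b6b5b4b3b2b1b0abaaa9a8afaeadaca3a2a1a0a7a6a5a49f9e9d9c9b9a999897969594939291908b8a89888f8e8d8c838281808786858472737071767774757a7b78797e7f7c7d66676465626360616e6f6c6d6a6b686952535051565754555a5b58595e5f5c5d46474445424340414e4f4c4d4a4b48493b3a39383f3e3d3c33323130373635342f2e2d2c2b2a292827262524232221201b1a19181f1e1d1c13121110171615140f0e0d0c0b0a09080706050403020100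
def g_s11 : Nat := nat_lit 0xf3f2f1f0f7f6f5f4fbfaf9f8fffefdfce3e2e1e0e7e6e5e4ebeae9e8efeeedecd3d2d1d0d7d6d5d4dbdad9d8dfdedddcc3c2c1c0c7c6c5c4cbcac9c8cfcecdccbbbab9b8bfbebdbcb3b2b1b0b7b6b5b4abaaa9a8afaeadaca3a2a1a0a7a6a5a49b9a99989f9e9d9c93929190979695948b8a89888f8e8d8c838281808786858477767574737271707f7e7d7c7b7a797867666564636261606f6e6d6c6b6a696857565554535251505f5e5d5c5b5a595847464544434241404f4e4d4c4b4a49483f3e3d3c3b3a393837363534333231302f2e2d2c2b2a292827262524232221201f1e1d1c1b1a191817161514131211100f0e0d0c0b0a09080706050403020100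
noncomputable def g_lev0 : Core.Lev := Core.mkLev g_n g_w g_mask g_L g_maskL g_idc (nat_lit 2) [g_s11, g_s9, g_s10, g_s6, g_s7, g_s8, g_s3, g_s4, g_s5, g_s2, g_s1, g_s0] [(nat_lit 3, g_s0, nat_lit 2), (nat_lit 4, g_s1, nat_lit 3), (nat_lit 15, g_s3, nat_lit 4), (nat_lit 5, g_s4, nat_lit 4), (nat_lit 7, g_s5, nat_lit 4), (nat_lit 64, g_s2, nat_lit 4), (nat_lit 14, g_s4, nat_lit 15), (nat_lit 12, g_s5, nat_lit 15), (nat_lit 193, g_s2, nat_lit 15), (nat_lit 13, g_s1, nat_lit 15), (nat_lit 6, g_s5, nat_lit 5), (nat_lit 65, g_s2, nat_lit 5), (nat_lit 67, g_s2, nat_lit 7), (nat_lit 1, g_s1, nat_lit 7), (nat_lit 72, g_s11, nat_lit 64), (nat_lit 73, g_s9, nat_lit 64), (nat_lit 74, g_s6, nat_lit 64), (nat_lit 75, g_s7, nat_lit 64), (nat_lit 66, g_s4, nat_lit 64), (nat_lit 134, g_s2, nat_lit 64), (nat_lit 28, g_s1, nat_lit 64), (nat_lit 192, g_s2, nat_lit 14), (nat_lit 11, g_s1,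 nat_lit 14), (nat_lit 194, g_s2, nat_lit 12), (nat_lit 9, g_s1, nat_lit 12), (nat_lit 205, g_s11, nat_lit 193), (nat_lit 204, g_s10, nat_lit 193), (nat_lit 207, g_s6, nat_lit 193), (nat_lit 130, g_s3, nat_lit 193), (nat_lit 155, g_s1, nat_lit 193), (nat_lit 195, g_s2, nat_lit 13), (nat_lit 135, g_s2, nat_lit 65), (nat_lit 26, g_s1, nat_lit 65), (nat_lit 133, g_s2, nat_lit 67), (nat_lit 24, g_s1, nat_lit 67), (nat_lit 16, g_s1, nat_lit 72), (nat_lit 22, g_s1, nat_lit 73), (nat_lit 18, g_s1, nat_lit 74), (nat_lit 20, g_s1, nat_lit 75), (nat_lit 132, g_s2, nat_lit 66), (nat_lit 30, g_s1, nat_lit 66), (nat_lit 131, g_s9, nat_lit 134), (nat_lit 128, g_s7, nat_lit 134), (nat_lit 129, g_s8, nat_lit 134), (nat_lit 206, g_s3, nat_lit 134), (nat_lit 10, g_s2, nat_lit 134), (nat_lit 93, g_s3, nat_lit 28), (nat_lit 85, g_s4, nat_lit 28), (nat_lit 210, g_s2, nat_lit 28), (nat_lit 213,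 g_s1, nat_lit 28), (nat_lit 60, g_s0, nat_lit 28), (nat_lit 157, g_s1, nat_lit 192), (nat_lit 8, g_s1, nat_lit 11), (nat_lit 159, g_s1, nat_lit 194), (nat_lit 146, g_s1, nat_lit 205), (nat_lit 148, g_s1, nat_lit 204), (nat_lit 144, g_s1, nat_lit 207), (nat_lit 217, g_s5, nat_lit 155), (nat_lit 186, g_s0, nat_lit 155), (nat_lit 153, g_s1, nat_lit 195), (nat_lit 80, g_s3, nat_lit 26), (nat_lit 82, g_s4, nat_lit 26), (nat_lit 88, g_s5, nat_lit 26), (nat_lit 59, g_s0, nat_lit 26), (nat_lit 90, g_s5, nat_lit 24), (nat_lit 208, g_s1, nat_lit 24), (nat_lit 56, g_s0, nat_lit 24), (nat_lit 220, g_s1, nat_lit 16), (nat_lit 48, g_s0, nat_lit 16), (nat_lit 87, g_s3, nat_lit 22), (nat_lit 95, g_s4, nat_lit 22), (nat_lit 219, g_s1, nat_lit 22), (nat_lit 55, g_s0, nat_lit 22), (nat_lit 222, g_s1, nat_lit 18), (nat_lit 51, g_s0, nat_lit 18), (nat_lit 52, g_s0, nat_lit 20), (nat_lit 215,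 g_s1, nat_lit 30), (nat_lit 63, g_s0, nat_lit 30), (nat_lit 150, g_s1, nat_lit 206), (nat_lit 125, g_s0, nat_lit 93), (nat_lit 117, g_s0, nat_lit 85), (nat_lit 243, g_s0, nat_lit 210), (nat_lit 245, g_s0, nat_lit 213), (nat_lit 112, g_s4, nat_lit 60), (nat_lit 250, g_s2, nat_lit 60), (nat_lit 41, g_s1, nat_lit 60), (nat_lit 189, g_s0, nat_lit 157), (nat_lit 190, g_s0, nat_lit 159), (nat_lit 179, g_s0, nat_lit 146), (nat_lit 180, g_s0, nat_lit 148), (nat_lit 176, g_s0, nat_lit 144), (nat_lit 249, g_s0, nat_lit 217), (nat_lit 183, g_s7, nat_lit 186), (nat_lit 185, g_s8, nat_lit 186), (nat_lit 246, g_s4, nat_lit 186), (nat_lit 240, g_s2, nat_lit 186), (nat_lit 175, g_s1, nat_lit 186), (nat_lit 115, g_s0, nat_lit 82), (nat_lit 120, g_s0, nat_lit 88), (nat_lit 118, g_s4, nat_lit 59), (nat_lit 40, g_s1, nat_lit 59), (nat_lit 123, g_s0, nat_lit 90), (nat_lit 44, g_s1, nat_lit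 56), (nat_lit 252, g_s0, nat_lit 220), (nat_lit 32, g_s1, nat_lit 48), (nat_lit 126, g_s0, nat_lit 95), (nat_lit 33, g_s1, nat_lit 55), (nat_lit 255, g_s0, nat_lit 222), (nat_lit 36, g_s1, nat_lit 51), (nat_lit 37, g_s1, nat_lit 52), (nat_lit 45, g_s1, nat_lit 63), (nat_lit 96, g_s3, nat_lit 41), (nat_lit 104, g_s5, nat_lit 41), (nat_lit 171, g_s2, nat_lit 41), (nat_lit 174, g_s1, nat_lit 189), (nat_lit 170, g_s1, nat_lit 190), (nat_lit 165, g_s1, nat_lit 179), (nat_lit 164, g_s1, nat_lit 180), (nat_lit 161, g_s1, nat_lit 176), (nat_lit 160, g_s1, nat_lit 183), (nat_lit 237, g_s5, nat_lit 175), (nat_lit 97, g_s3, nat_lit 40), (nat_lit 105, g_s5, nat_lit 40), (nat_lit 110, g_s3, nat_lit 44), (nat_lit 234, g_s2, nat_lit 44), (nat_lit 102, g_s3, nat_lit 36), (nat_lit 103, g_s3, nat_lit 37), (nat_lit 111, g_s3, nat_lit 45), (nat_lit 235, g_s2, nat_lit 45), (nat_lit 224, g_s1,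 nat_lit 96), (nat_lit 236, g_s1, nat_lit 104), (nat_lit 225, g_s2, nat_lit 171), (nat_lit 231, g_s5, nat_lit 165), (nat_lit 230, g_s5, nat_lit 164)]
noncomputable def g_lev1 : Core.Lev := Core.mkLev g_n g_w g_mask g_L g_maskL g_idc (nat_lit 1) [g_s11, g_s9, g_s10, g_s6, g_s7, g_s8, g_s3, g_s4, g_s5, g_s2, g_s1] [(nat_lit 6, g_s1, nat_lit 1), (nat_lit 13, g_s3, nat_lit 6), (nat_lit 7, g_s4, nat_lit 6), (nat_lit 5, g_s5, nat_lit 6), (nat_lit 66, g_s2, nat_lit 6), (nat_lit 12, g_s4, nat_lit 13), (nat_lit 14, g_s5, nat_lit 13), (nat_lit 195, g_s2, nat_lit 13), (nat_lit 15, g_s1, nat_lit 13), (nat_lit 4, g_s5, nat_lit 7), (nat_lit 67, g_s2, nat_lit 7), (nat_lit 65, g_s2, nat_lit 5), (nat_lit 3, g_s1, nat_lit 5), (nat_lit 74, g_s11, nat_lit 66), (nat_lit 75, g_s9, nat_lit 66), (nat_lit 72, g_s6, nat_lit 66), (nat_lit 73, g_s7, nat_lit 66), (nat_lit 64, g_s4, nat_lit 66), (nat_lit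 132, g_s2, nat_lit 66), (nat_lit 30, g_s1, nat_lit 66), (nat_lit 194, g_s2, nat_lit 12), (nat_lit 9, g_s1, nat_lit 12), (nat_lit 192, g_s2, nat_lit 14), (nat_lit 11, g_s1, nat_lit 14), (nat_lit 207, g_s11, nat_lit 195), (nat_lit 206, g_s10, nat_lit 195), (nat_lit 205, g_s6, nat_lit 195), (nat_lit 128, g_s3, nat_lit 195), (nat_lit 153, g_s1, nat_lit 195), (nat_lit 193, g_s2, nat_lit 15), (nat_lit 133, g_s2, nat_lit 67), (nat_lit 24, g_s1, nat_lit 67), (nat_lit 135, g_s2, nat_lit 65), (nat_lit 26, g_s1, nat_lit 65), (nat_lit 18, g_s1, nat_lit 74), (nat_lit 20, g_s1, nat_lit 75), (nat_lit 16, g_s1, nat_lit 72), (nat_lit 22, g_s1, nat_lit 73), (nat_lit 134, g_s2, nat_lit 64), (nat_lit 28, g_s1, nat_lit 64), (nat_lit 129, g_s9, nat_lit 132), (nat_lit 130, g_s7, nat_lit 132), (nat_lit 131, g_s8, nat_lit 132), (nat_lit 204, g_s3, nat_lit 132), (nat_lit 8, g_s2, nat_lit 132),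 (nat_lit 95, g_s3, nat_lit 30), (nat_lit 87, g_s4, nat_lit 30), (nat_lit 208, g_s2, nat_lit 30), (nat_lit 215, g_s1, nat_lit 30), (nat_lit 159, g_s1, nat_lit 194), (nat_lit 10, g_s1, nat_lit 9), (nat_lit 157, g_s1, nat_lit 192), (nat_lit 144, g_s1, nat_lit 207), (nat_lit 150, g_s1, nat_lit 206), (nat_lit 146, g_s1, nat_lit 205), (nat_lit 219, g_s5, nat_lit 153), (nat_lit 155, g_s1, nat_lit 193), (nat_lit 82, g_s3, nat_lit 24), (nat_lit 80, g_s4, nat_lit 24), (nat_lit 90, g_s5, nat_lit 24), (nat_lit 88, g_s5, nat_lit 26), (nat_lit 210, g_s1, nat_lit 26), (nat_lit 222, g_s1, nat_lit 18), (nat_lit 85, g_s3, nat_lit 20), (nat_lit 93, g_s4, nat_lit 20), (nat_lit 217, g_s1, nat_lit 20), (nat_lit 220, g_s1, nat_lit 16), (nat_lit 213, g_s1, nat_lit 28), (nat_lit 148, g_s1, nat_lit 204)]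
noncomputable def g_lev2 : Core.Lev := Core.mkLev g_n g_w g_mask g_L g_maskL g_idc (nat_lit 8) [g_s11, g_s9, g_s10, g_s6, g_s7, g_s8, g_s3, g_s4, g_s5, g_s2] [(nat_lit 130, g_s2, nat_lit 8), (nat_lit 134, g_s11, nat_lit 130), (nat_lit 135, g_s9, nat_lit 130), (nat_lit 132, g_s7, nat_lit 130), (nat_lit 133, g_s8, nat_lit 130), (nat_lit 193, g_s3, nat_lit 130), (nat_lit 131, g_s4, nat_lit 130), (nat_lit 74, g_s2, nat_lit 130), (nat_lit 128, g_s7, nat_lit 134), (nat_lit 129, g_s8, nat_lit 134), (nat_lit 206, g_s3, nat_lit 134), (nat_lit 10, g_s2, nat_lit 134), (nat_lit 207, g_s3, nat_lit 135), (nat_lit 11, g_s2, nat_lit 135), (nat_lit 204, g_s3, nat_lit 132), (nat_lit 205, g_s3, nat_lit 133), (nat_lit 9, g_s2, nat_lit 133), (nat_lit 194, g_s4, nat_lit 193), (nat_lit 192, g_s3, nat_lit 131), (nat_lit 75, g_s2, nat_lit 131), (nat_lit 66, g_s11, nat_lit 74), (nat_lit 67, g_s9,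 nat_lit 74), (nat_lit 64, g_s6, nat_lit 74), (nat_lit 65, g_s7, nat_lit 74), (nat_lit 72, g_s4, nat_lit 74), (nat_lit 6, g_s2, nat_lit 74), (nat_lit 195, g_s3, nat_lit 128), (nat_lit 73, g_s2, nat_lit 129), (nat_lit 14, g_s2, nat_lit 206), (nat_lit 15, g_s2, nat_lit 207), (nat_lit 12, g_s2, nat_lit 204), (nat_lit 13, g_s2, nat_lit 205), (nat_lit 7, g_s2, nat_lit 75), (nat_lit 4, g_s2, nat_lit 72), (nat_lit 5, g_s5, nat_lit 6)]
noncomputable def g_lev3 : Core.Lev := Core.mkLev g_n g_w g_mask g_L g_maskL g_idc (nat_lit 4) [g_s11, g_s9, g_s10, g_s6, g_s7, g_s8, g_s3, g_s4, g_s5] [(nat_lit 15, g_s3, nat_lit 4), (nat_lit 5, g_s4, nat_lit 4), (nat_lit 7, g_s5, nat_lit 4), (nat_lit 14, g_s4, nat_lit 15), (nat_lit 12, g_s5, nat_lit 15), (nat_lit 6, g_s5, nat_lit 5), (nat_lit 13, g_s5, nat_lit 14)]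
noncomputable def g_lev4 : Core.Lev := Core.mkLev g_n g_w g_mask g_L g_maskL g_idc (nat_lit 32) [g_s11, g_s9, g_s10, g_s6, g_s7, g_s8] [(nat_lit 36, g_s6, nat_lit 32), (nat_lit 45, g_s7, nat_lit 32), (nat_lit 44, g_s8, nat_lit 32), (nat_lit 41, g_s7, nat_lit 36), (nat_lit 40, g_s8, nat_lit 36), (nat_lit 33, g_s8, nat_lit 45), (nat_lit 37, g_s8, nat_lit 41)]
noncomputable def g_lev5 : Core.Lev := Core.mkLev g_n g_w g_mask g_L g_maskL g_idc (nat_lit 16) [g_s11, g_s9, g_s10] [(nat_lit 28, g_s9, nat_lit 16), (nat_lit 20, g_s10, nat_lit 16), (nat_lit 24, g_s10, nat_lit 28)]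
noncomputable def g_lev6 : Core.Lev := Core.mkLev g_n g_w g_mask g_L g_maskL g_idc (nat_lit 64) [g_s11] [(nat_lit 72, g_s11, nat_lit 64)]
noncomputable def g_levels : List Core.Lev := [g_lev0, g_lev1, g_lev2, g_lev3, g_lev4, g_lev5, g_lev6]

end Cfsg.Agent.Lib.Schur.O8.GData
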