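import Cfsg.Agent.Lib.Schur.O8.GData
import Cfsg.Agent.Lib.Classical.SympSimple
import Cfsg.Agent.Lib.Classical.QuadEichBridge
import Cfsg.Agent.Lib.Orth.Forms
import Cfsg.Agent.Lib.PermRepO.Transfer

/-!
# `Ω₈⁺(2)` as a permutation group on the 256 vectors
-/

set_option autoImplicit false
set_option maxRecDepth 100000

namespace Cfsg.Agent.Lib.Schur.O8.Main

open scoped Matrix commutatorElement
open _root_.Cfsg.Agent.Lib.PermComp
open Cfsg.Agent.Lib.Schur.O8.GData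

/-- The prime field. -/
abbrev K2 : Type := ZMod 2

/-- The index set. -/
abbrev Idx : Type := Fin 4 ⊕ Fin 4

/-- The vectors. -/
abbrev V : Type := Idx → K2

/-- The form. -/
abbrev Qf : V → K2 := Cfsg.quadFormPlus 4 K2

/-- The orthogonal group. -/
abbrev O : Type := ↥(Cfsg.isometryGroup K2 Qf)

/-- The number of a vector. -/
def enc (v : V) : ℕ :=
  (v (.inl 0)).val + 2 * (v (.inl 1)).val + 4 * (v (.inl 2)).val + 8 * (v (.inl 3)).val +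
    16 * (v (.inr 0)).val + 32 * (v (.inr 1)).val + 64 * (v (.inr 2)).val + 128 * (v (.inr 3)).val

/-- The vector of a number. -/
def dec (i : ℕ) : V := fun x => match x with
  | .inl j => ((i / 2 ^ j.val % 2 : ℕ) : K2)
  | .inr j => ((i / 2 ^ (4 + j.val) % 2 : ℕ) : K2)

theorem enc_lt (v : V) : enc v < g_n := by
  have h : ∀ a : K2, a.val ≤ 1 := by decide
  have h1 := h (v (.inl 0))
  have h2 := h (v (.inl 1))
  have h3 := h (v (.inl 2))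
  have h4 := h (v (.inl 3))
  have h5 := h (v (.inr 0))
  have h6 := h (v (.inr 1))
  have h7 := h (v (.inr 2))
  have h8 := h (v (.inr 3))
  show enc v < 256
  unfold enc
  omega

theorem enc_dec : ∀ i : Fin g_n, enc (dec i.1) = i.1 := by
  decide +kernel

theorem card_V : Fintype.card V = g_n := by
  simp [g_n, ZMod.card]

/-- The numbering of the vectors. -/
noncomputable def e : V ≃ Fin g_n :=
  Equiv.ofBijective (fun v => ⟨enc v, enc_lt v⟩)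
    ((Fintype.bijective_iff_surjective_and_card _).2
      ⟨fun i => ⟨dec i.1, Fin.ext (enc_dec i)⟩, by rw [card_V]; simp⟩)

theorem e_coe (v : V) : ((e v : Fin g_n) : ℕ) = enc v := rfl

theorem dec_enc (v : V) : dec (enc v) = v := by
  have h : e (dec (enc v)) = e v := Fin.ext (by rw [e_coe]; exact enc_dec ⟨enc v, enc_lt v⟩)
  exact e.injective h

/-- The action on the vectors. -/
noncomputable def rhoG : Matrix.GeneralLinearGroup Idx K2 →* Equiv.Perm V where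
  toFun A :=
    { toFun := fun v => (A : Matrix Idx Idx K2) *ᵥ v
      invFun := fun v => ((A⁻¹ : Matrix.GeneralLinearGroup Idx K2) : Matrix Idx Idx K2) *ᵥ v
      left_inv := fun v => by
        show ((A⁻¹ : Matrix.GeneralLinearGroup Idx K2) : Matrix Idx Idx K2) *ᵥ ((A : Matrix Idx Idx K2) *ᵥ v) = v
        rw [Matrix.mulVec_mulVec, ← Units.val_mul, inv_mul_cancel, Units.val_one, Matrix.one_mulVec]
      right_inv := fun v => by
        show (A : Matrix Idx Idx K2) *ᵥ (((A⁻¹ : Matrix.GeneralLinearGroup Idx K2) : Matrix Idx Idx K2) *ᵥ v) = v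
        rw [Matrix.mulVec_mulVec, ← Units.val_mul, mul_inv_cancel, Units.val_one, Matrix.one_mulVec] }
  map_one' := by
    ext v
    simp
  map_mul' A B := by
    ext v
    simp [Matrix.mulVec_mulVec]

/-- The action of the orthogonal group. -/
noncomputable def rho : O →* Equiv.Perm V := rhoG.comp (Cfsg.isometryGroup K2 Qf).subtype

theorem rho_apply (A : O) (v : V) : rho A v = ((A : Matrix.GeneralLinearGroup Idx K2) : Matrix Idx Idx K2) *ᵥ v := rfl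

theorem rho_inj : Function.Injective rho := by
  intro A B h
  apply Subtype.ext
  apply Units.ext
  apply Matrix.mulVec_injective
  funext v
  exact congrArg (fun f : Equiv.Perm V => f v) h

/-- An element of the orthogonal group from an involutory matrix. -/
noncomputable def mkO (M : Matrix Idx Idx K2) (h1 : M * M = 1) (h2 : ∀ i : Fin g_n, Qf (M *ᵥ dec i.1) = Qf (dec i.1)) : O :=
  ⟨⟨M, M, h1, h1⟩, by
    rw [Cfsg.Agent.Lib.Orth.Bridge.mem_isometryGroup_iff]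
    intro v
    have h3 := h2 ⟨enc v, enc_lt v⟩
    simp only [dec_enc] at h3
    exact h3⟩

theorem mkO_val (M : Matrix Idx Idx K2) (h1 : M * M = 1) (h2 : ∀ i : Fin g_n, Qf (M *ᵥ dec i.1) = Qf (dec i.1)) :
    ((mkO M h1 h2 : O).1 : Matrix Idx Idx K2) = M := rfl

theorem comm_of_sq {a b x : O} (ha : a * a = 1) (hb : b * b = 1) (h : a * b * a * b = x) : ⁅a, b⁆ = x := by
  have h1 : a⁻¹ = a := inv_eq_of_mul_eq_one_left ha
  have h2 : b⁻¹ = b := inv_eq_of_mul_eq_one_left hb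
  rw [commutatorElement_def, h1, h2, h]

theorem mem_Omega_of_matrices {Ma Mb Mx : Matrix Idx Idx K2} {ha1 : Ma * Ma = 1}
    {ha2 : ∀ i : Fin g_n, Qf (Ma *ᵥ dec i.1) = Qf (dec i.1)} {hb1 : Mb * Mb = 1}
    {hb2 : ∀ i : Fin g_n, Qf (Mb *ᵥ dec i.1) = Qf (dec i.1)} {hx1 : Mx * Mx = 1}
    {hx2 : ∀ i : Fin g_n, Qf (Mx *ᵥ dec i.1) = Qf (dec i.1)}
    (h : Ma * Mb * Ma * Mb = Mx) : mkO Mx hx1 hx2 ∈ Cfsg.Omega K2 Qf := by
  have h1 : ⁅mkO Ma ha1 ha2, mkO Mb hb1 hb2⁆ = mkO Mx hx1 hx2 := by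
    apply comm_of_sq
    · apply Subtype.ext
      apply Units.ext
      exact ha1
    · apply Subtype.ext
      apply Units.ext
      exact hb1
    · apply Subtype.ext
      apply Units.ext
      exact h
  rw [← h1]
  exact Subgroup.commutator_mem_commutator (Subgroup.mem_top _) (Subgroup.mem_top _)

def N0 : Matrix Idx Idx K2 := Matrix.fromBlocks (!![1, 1, 0, 0; 0, 1, 0, 0; 0, 0, 1, 0; 0, 0, 0, 1]) (!![0, 0, 0, 0; 0, 0, 0, 0; 0, 0, 0, 0; 0, 0, 0, 0]) (!![0, 0, 0, 0; 0, 0, 0, 0; 0, 0, 0, 0; 0, 0, 0, 0]) (!![1, 0, 0, 0; 1, 1, 0, 0; 0, 0, 1, 0; 0, 0, 0, 1])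

def N1 : Matrix Idx Idx K2 := Matrix.fromBlocks (!![1, 0, 0, 0; 0, 1, 0, 0; 0, 0, 1, 0; 0, 0, 0, 1]) (!![0, 0, 1, 0; 0, 0, 0, 0; 1, 0, 0, 0; 0, 0, 0, 0]) (!![0, 0, 0, 0; 0, 0, 0, 0; 0, 0, 0, 0; 0, 0, 0, 0]) (!![1, 0, 0, 0; 0, 1, 0, 0; 0, 0, 1, 0; 0, 0, 0, 1])

def N2 : Matrix Idx Idx K2 := Matrix.fromBlocks (!![1, 0, 0, 0; 0, 1, 0, 0; 0, 0, 1, 0; 0, 0, 0, 1]) (!![0, 0, 0, 0; 0, 0, 0, 0; 0, 0, 0, 0; 0, 0, 0, 0]) (!![0, 0, 0, 0; 0, 0, 1, 0; 0, 1, 0, 0; 0, 0, 0, 0]) (!![1, 0, 0, 0; 0, 1, 0, 0; 0, 0, 1, 0; 0, 0, 0, 1])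

def N3 : Matrix Idx Idx K2 := Matrix.fromBlocks (!![1, 0, 0, 0; 1, 1, 0, 0; 0, 0, 1, 0; 0, 0, 0, 1]) (!![0, 0, 0, 0; 0, 0, 0, 0; 0, 0, 0, 0; 0, 0, 0, 0]) (!![0, 0, 0, 0; 0, 0, 0, 0; 0, 0, 0, 0; 0, 0, 0, 0]) (!![1, 1, 0, 0; 0, 1, 0, 0; 0, 0, 1, 0; 0, 0, 0, 1])

def N4 : Matrix Idx Idx K2 := Matrix.fromBlocks (!![1, 0, 0, 0; 0, 1, 0, 0; 1, 0, 1, 0; 0, 0, 0, 1]) (!![0, 0, 0, 0; 0, 0, 0, 0; 0, 0, 0, 0; 0, 0, 0, 0]) (!![0, 0, 0, 0; 0, 0, 0, 0; 0, 0, 0, 0; 0, 0, 0, 0]) (!![1, 0, 1, 0; 0, 1, 0, 0; 0, 0, 1, 0; 0, 0, 0, 1])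

def N5 : Matrix Idx Idx K2 := Matrix.fromBlocks (!![1, 0, 0, 0; 0, 1, 1, 0; 0, 0, 1, 0; 0, 0, 0, 1]) (!![0, 0, 0, 0; 0, 0, 0, 0; 0, 0, 0, 0; 0, 0, 0, 0]) (!![0, 0, 0, 0; 0, 0, 0, 0; 0, 0, 0, 0; 0, 0, 0, 0]) (!![1, 0, 0, 0; 0, 1, 0, 0; 0, 1, 1, 0; 0, 0, 0, 1])

def N6 : Matrix Idx Idx K2 := Matrix.fromBlocks (!![1, 0, 0, 0; 0, 1, 0, 0; 0, 0, 1, 0; 0, 0, 0, 1]) (!![0, 1, 0, 0; 1, 0, 0, 0; 0, 0, 0, 0; 0, 0, 0, 0]) (!![0, 0, 0, 0; 0, 0, 0, 0; 0, 0, 0, 0; 0, 0, 0, 0]) (!![1, 0, 0, 0; 0, 1, 0, 0; 0, 0, 1, 0; 0, 0, 0, 1])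

def N7 : Matrix Idx Idx K2 := Matrix.fromBlocks (!![1, 0, 0, 0; 0, 1, 0, 0; 0, 0, 1, 0; 0, 0, 0, 1]) (!![0, 0, 0, 0; 0, 0, 0, 0; 0, 0, 0, 0; 0, 0, 0, 0]) (!![0, 0, 1, 0; 0, 0, 0, 0; 1, 0, 0, 0; 0, 0, 0, 0]) (!![1, 0, 0, 0; 0, 1, 0, 0; 0, 0, 1, 0; 0, 0, 0, 1])

def N8 : Matrix Idx Idx K2 := Matrix.fromBlocks (!![1, 0, 0, 0; 0, 1, 0, 0; 0, 1, 1, 0; 0, 0, 0, 1]) (!![0, 0, 0, 0; 0, 0, 0, 0; 0, 0, 0, 0; 0, 0, 0, 0]) (!![0, 0, 0, 0; 0, 0, 0, 0; 0, 0, 0, 0; 0, 0, 0, 0]) (!![1, 0, 0, 0; 0, 1, 1, 0; 0, 0, 1, 0; 0, 0, 0, 1])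

def N9 : Matrix Idx Idx K2 := Matrix.fromBlocks (!![1, 0, 0, 0; 0, 1, 0, 0; 0, 0, 1, 1; 0, 0, 0, 1]) (!![0, 0, 0, 0; 0, 0, 0, 0; 0, 0, 0, 0; 0, 0, 0, 0]) (!![0, 0, 0, 0; 0, 0, 0, 0; 0, 0, 0, 0; 0, 0, 0, 0]) (!![1, 0, 0, 0; 0, 1, 0, 0; 0, 0, 1, 0; 0, 0, 1, 1])

def N10 : Matrix Idx Idx K2 := Matrix.fromBlocks (!![1, 0, 0, 0; 0, 1, 0, 0; 0, 0, 1, 0; 0, 0, 0, 1]) (!![0, 0, 0, 0; 0, 0, 0, 0; 0, 0, 0, 0; 0, 0, 0, 0]) (!![0, 0, 0, 1; 0, 0, 0, 0; 0, 0, 0, 0; 1, 0, 0, 0]) (!![1, 0, 0, 0; 0, 1, 0, 0; 0, 0, 1, 0; 0, 0, 0, 1])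

def N11 : Matrix Idx Idx K2 := Matrix.fromBlocks (!![1, 0, 0, 0; 0, 1, 0, 0; 0, 0, 1, 0; 0, 0, 1, 1]) (!![0, 0, 0, 0; 0, 0, 0, 0; 0, 0, 0, 0; 0, 0, 0, 0]) (!![0, 0, 0, 0; 0, 0, 0, 0; 0, 0, 0, 0; 0, 0, 0, 0]) (!![1, 0, 0, 0; 0, 1, 0, 0; 0, 0, 1, 1; 0, 0, 0, 1])

def N12 : Matrix Idx Idx K2 := Matrix.fromBlocks (!![1, 0, 1, 0; 0, 1, 0, 0; 0, 0, 1, 0; 0, 0, 0, 1]) (!![0, 0, 0, 0; 0, 0, 0, 0; 0, 0, 0, 0; 0, 0, 0, 0]) (!![0, 0, 0, 0; 0, 0, 0, 0; 0, 0, 0, 0; 0, 0, 0, 0]) (!![1, 0, 0, 0; 0, 1, 0, 0; 1, 0, 1, 0; 0, 0, 0, 1])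

def N13 : Matrix Idx Idx K2 := Matrix.fromBlocks (!![1, 0, 0, 0; 0, 1, 0, 0; 0, 0, 1, 0; 1, 0, 0, 1]) (!![0, 0, 0, 0; 0, 0, 0, 0; 0, 0, 0, 0; 0, 0, 0, 0]) (!![0, 0, 0, 0; 0, 0, 0, 0; 0, 0, 0, 0; 0, 0, 0, 0]) (!![1, 0, 0, 1; 0, 1, 0, 0; 0, 0, 1, 0; 0, 0, 0, 1])

def N14 : Matrix Idx Idx K2 := Matrix.fromBlocks (!![1, 0, 0, 0; 0, 1, 0, 0; 0, 0, 1, 0; 0, 0, 0, 1]) (!![0, 0, 0, 0; 0, 0, 0, 0; 0, 0, 0, 1; 0, 0, 1, 0]) (!![0, 0, 0, 0; 0, 0, 0, 0; 0, 0, 0, 0; 0, 0, 0, 0]) (!![1, 0, 0, 0; 0, 1, 0, 0; 0, 0, 1, 0; 0, 0, 0, 1])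

def N15 : Matrix Idx Idx K2 := Matrix.fromBlocks (!![1, 0, 0, 0; 0, 1, 0, 0; 0, 0, 1, 0; 0, 0, 0, 1]) (!![0, 0, 0, 0; 0, 0, 0, 0; 0, 0, 0, 0; 0, 0, 0, 0]) (!![0, 0, 0, 0; 0, 0, 0, 0; 0, 0, 0, 1; 0, 0, 1, 0]) (!![1, 0, 0, 0; 0, 1, 0, 0; 0, 0, 1, 0; 0, 0, 0, 1])

theorem N0_sq : N0 * N0 = 1 := by
  decide +kernel

theorem N0_iso : ∀ i : Fin g_n, Qf (N0 *ᵥ dec i.1) = Qf (dec i.1) := by
  decide +kernel

/-- An isometry. -/
noncomputable def ON0 : O := mkO N0 N0_sq N0_iso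

theorem N1_sq : N1 * N1 = 1 := by
  decide +kernel

theorem N1_iso : ∀ i : Fin g_n, Qf (N1 *ᵥ dec i.1) = Qf (dec i.1) := by
  decide +kernel

/-- An isometry. -/
noncomputable def ON1 : O := mkO N1 N1_sq N1_iso

theorem N2_sq : N2 * N2 = 1 := by
  decide +kernel

theorem N2_iso : ∀ i : Fin g_n, Qf (N2 *ᵥ dec i.1) = Qf (dec i.1) := by
  decide +kernel

/-- An isometry. -/
noncomputable def ON2 : O := mkO N2 N2_sq N2_iso

theorem N3_sq : N3 * N3 = 1 := by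
  decide +kernel

theorem N3_iso : ∀ i : Fin g_n, Qf (N3 *ᵥ dec i.1) = Qf (dec i.1) := by
  decide +kernel

/-- An isometry. -/
noncomputable def ON3 : O := mkO N3 N3_sq N3_iso

theorem N4_sq : N4 * N4 = 1 := by
  decide +kernel

theorem N4_iso : ∀ i : Fin g_n, Qf (N4 *ᵥ dec i.1) = Qf (dec i.1) := by
  decide +kernel

/-- An isometry. -/
noncomputable def ON4 : O := mkO N4 N4_sq N4_iso

theorem N5_sq : N5 * N5 = 1 := by
  decide +kernel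

theorem N5_iso : ∀ i : Fin g_n, Qf (N5 *ᵥ dec i.1) = Qf (dec i.1) := by
  decide +kernel

/-- An isometry. -/
noncomputable def ON5 : O := mkO N5 N5_sq N5_iso

theorem N6_sq : N6 * N6 = 1 := by
  decide +kernel

theorem N6_iso : ∀ i : Fin g_n, Qf (N6 *ᵥ dec i.1) = Qf (dec i.1) := by
  decide +kernel

/-- An isometry. -/
noncomputable def ON6 : O := mkO N6 N6_sq N6_iso

theorem N7_sq : N7 * N7 = 1 := by
  decide +kernel

theorem N7_iso : ∀ i : Fin g_n, Qf (N7 *ᵥ dec i.1) = Qf (dec i.1) := by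
  decide +kernel

/-- An isometry. -/
noncomputable def ON7 : O := mkO N7 N7_sq N7_iso

theorem N8_sq : N8 * N8 = 1 := by
  decide +kernel

theorem N8_iso : ∀ i : Fin g_n, Qf (N8 *ᵥ dec i.1) = Qf (dec i.1) := by
  decide +kernel

/-- An isometry. -/
noncomputable def ON8 : O := mkO N8 N8_sq N8_iso

theorem N9_sq : N9 * N9 = 1 := by
  decide +kernel

theorem N9_iso : ∀ i : Fin g_n, Qf (N9 *ᵥ dec i.1) = Qf (dec i.1) := by
  decide +kernel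

/-- An isometry. -/
noncomputable def ON9 : O := mkO N9 N9_sq N9_iso

theorem N10_sq : N10 * N10 = 1 := by
  decide +kernel

theorem N10_iso : ∀ i : Fin g_n, Qf (N10 *ᵥ dec i.1) = Qf (dec i.1) := by
  decide +kernel

/-- An isometry. -/
noncomputable def ON10 : O := mkO N10 N10_sq N10_iso

theorem N11_sq : N11 * N11 = 1 := by
  decide +kernel

theorem N11_iso : ∀ i : Fin g_n, Qf (N11 *ᵥ dec i.1) = Qf (dec i.1) := by
  decide +kernel

/-- An isometry. -/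
noncomputable def ON11 : O := mkO N11 N11_sq N11_iso

theorem N12_sq : N12 * N12 = 1 := by
  decide +kernel

theorem N12_iso : ∀ i : Fin g_n, Qf (N12 *ᵥ dec i.1) = Qf (dec i.1) := by
  decide +kernel

/-- An isometry. -/
noncomputable def ON12 : O := mkO N12 N12_sq N12_iso

theorem N13_sq : N13 * N13 = 1 := by
  decide +kernel

theorem N13_iso : ∀ i : Fin g_n, Qf (N13 *ᵥ dec i.1) = Qf (dec i.1) := by
  decide +kernel

/-- An isometry. -/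
noncomputable def ON13 : O := mkO N13 N13_sq N13_iso

theorem N14_sq : N14 * N14 = 1 := by
  decide +kernel

theorem N14_iso : ∀ i : Fin g_n, Qf (N14 *ᵥ dec i.1) = Qf (dec i.1) := by
  decide +kernel

/-- An isometry. -/
noncomputable def ON14 : O := mkO N14 N14_sq N14_iso

theorem N15_sq : N15 * N15 = 1 := by
  decide +kernel

theorem N15_iso : ∀ i : Fin g_n, Qf (N15 *ᵥ dec i.1) = Qf (dec i.1) := by
  decide +kernel

/-- An isometry. -/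
noncomputable def ON15 : O := mkO N15 N15_sq N15_iso

theorem X0_comm : N1 * N2 * N1 * N2 = N0 := by
  decide +kernel

theorem X0_act : ∀ i : Fin g_n, Core.app g_w g_mask (g_T.getD 0 0) i.1 = enc (N0 *ᵥ dec i.1) := by
  decide +kernel

theorem X1_comm : N4 * N5 * N4 * N5 = N3 := by
  decide +kernel

theorem X1_act : ∀ i : Fin g_n, Core.app g_w g_mask (g_T.getD 1 0) i.1 = enc (N3 *ᵥ dec i.1) := by
  decide +kernel

theorem X2_comm : N6 * N7 * N6 * N7 = N5 := by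
  decide +kernel

theorem X2_act : ∀ i : Fin g_n, Core.app g_w g_mask (g_T.getD 2 0) i.1 = enc (N5 *ᵥ dec i.1) := by
  decide +kernel

theorem X3_comm : N0 * N4 * N0 * N4 = N8 := by
  decide +kernel

theorem X3_act : ∀ i : Fin g_n, Core.app g_w g_mask (g_T.getD 3 0) i.1 = enc (N8 *ᵥ dec i.1) := by
  decide +kernel

theorem X4_comm : N1 * N10 * N1 * N10 = N9 := by
  decide +kernel

theorem X4_act : ∀ i : Fin g_n, Core.app g_w g_mask (g_T.getD 4 0) i.1 = enc (N9 *ᵥ dec i.1) := by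
  decide +kernel

theorem X5_comm : N12 * N13 * N12 * N13 = N11 := by
  decide +kernel

theorem X5_act : ∀ i : Fin g_n, Core.app g_w g_mask (g_T.getD 5 0) i.1 = enc (N11 *ᵥ dec i.1) := by
  decide +kernel

theorem X6_comm : N1 * N13 * N1 * N13 = N14 := by
  decide +kernel

theorem X6_act : ∀ i : Fin g_n, Core.app g_w g_mask (g_T.getD 6 0) i.1 = enc (N14 *ᵥ dec i.1) := by
  decide +kernel

theorem X7_comm : N12 * N10 * N12 * N10 = N15 := by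
  decide +kernel

theorem X7_act : ∀ i : Fin g_n, Core.app g_w g_mask (g_T.getD 7 0) i.1 = enc (N15 *ᵥ dec i.1) := by
  decide +kernel

theorem len_T : g_T.length = 8 := by decide +kernel

/-- The generators in `Ω`. -/
theorem rep_all : ∀ k : Fin 8, ∃ A : O, A ∈ Cfsg.Omega K2 Qf ∧ Core.Rep g_w g_mask e (g_T.getD k 0) (rho A) := by
  intro k
  fin_cases k
  · refine ⟨ON0, mem_Omega_of_matrices (ha1 := N1_sq) (ha2 := N1_iso) (hb1 := N2_sq) (hb2 := N2_iso) X0_comm, ?_⟩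
    intro a
    have h := X0_act ⟨enc a, enc_lt a⟩
    rw [e_coe, e_coe, rho_apply]
    simp only [dec_enc] at h
    exact h
  · refine ⟨ON3, mem_Omega_of_matrices (ha1 := N4_sq) (ha2 := N4_iso) (hb1 := N5_sq) (hb2 := N5_iso) X1_comm, ?_⟩
    intro a
    have h := X1_act ⟨enc a, enc_lt a⟩
    rw [e_coe, e_coe, rho_apply]
    simp only [dec_enc] at h
    exact h
  · refine ⟨ON5, mem_Omega_of_matrices (ha1 := N6_sq) (ha2 := N6_iso) (hb1 := N7_sq) (hb2 := N7_iso) X2_comm, ?_⟩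
    intro a
    have h := X2_act ⟨enc a, enc_lt a⟩
    rw [e_coe, e_coe, rho_apply]
    simp only [dec_enc] at h
    exact h
  · refine ⟨ON8, mem_Omega_of_matrices (ha1 := N0_sq) (ha2 := N0_iso) (hb1 := N4_sq) (hb2 := N4_iso) X3_comm, ?_⟩
    intro a
    have h := X3_act ⟨enc a, enc_lt a⟩
    rw [e_coe, e_coe, rho_apply]
    simp only [dec_enc] at h
    exact h
  · refine ⟨ON9, mem_Omega_of_matrices (ha1 := N1_sq) (ha2 := N1_iso) (hb1 := N10_sq) (hb2 := N10_iso) X4_comm, ?_⟩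
    intro a
    have h := X4_act ⟨enc a, enc_lt a⟩
    rw [e_coe, e_coe, rho_apply]
    simp only [dec_enc] at h
    exact h
  · refine ⟨ON11, mem_Omega_of_matrices (ha1 := N12_sq) (ha2 := N12_iso) (hb1 := N13_sq) (hb2 := N13_iso) X5_comm, ?_⟩
    intro a
    have h := X5_act ⟨enc a, enc_lt a⟩
    rw [e_coe, e_coe, rho_apply]
    simp only [dec_enc] at h
    exact h
  · refine ⟨ON14, mem_Omega_of_matrices (ha1 := N1_sq) (ha2 := N1_iso) (hb1 := N13_sq) (hb2 := N13_iso) X6_comm, ?_⟩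
    intro a
    have h := X6_act ⟨enc a, enc_lt a⟩
    rw [e_coe, e_coe, rho_apply]
    simp only [dec_enc] at h
    exact h
  · refine ⟨ON15, mem_Omega_of_matrices (ha1 := N12_sq) (ha2 := N12_iso) (hb1 := N10_sq) (hb2 := N10_iso) X7_comm, ?_⟩
    intro a
    have h := X7_act ⟨enc a, enc_lt a⟩
    rw [e_coe, e_coe, rho_apply]
    simp only [dec_enc] at h
    exact h

theorem rep_T : ∀ c ∈ g_T, ∃ g, Core.Rep g_w g_mask e c g ∧ g ∈ (rho.comp (Cfsg.Omega K2 Qf).subtype).range := by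
  intro c hc
  obtain ⟨i, hi, rfl⟩ := List.mem_iff_getElem.1 hc
  obtain ⟨A, hA, hr⟩ := rep_all ⟨i, by rw [← len_T]; exact hi⟩
  refine ⟨rho A, ?_, ⟨⟨A, hA⟩, rfl⟩⟩
  rwa [List.getD_eq_getElem _ _ hi] at hr

theorem chain_ok : Core.checkAll g_n g_w g_mask g_L g_maskL g_idc g_T g_prog g_levels = true := by
  decide +kernel

theorem order_ok : Core.orderC g_levels = 174182400 := by
  decide +kernel

/-- The permutation group. -/
noncomputable abbrev Hg : Subgroup (Equiv.Perm V) := Core.H g_w g_mask e g_T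

theorem main_H : g_mask = 2 ^ g_w - 1 ∧ (∀ i < g_n, Core.app g_w g_mask g_idc i = i) ∧ g_idc < 2 ^ (g_n * g_w) ∧
      Core.Sem g_w g_mask e g_L g_maskL g_levels ∧ Hg = Core.H g_w g_mask e (Core.topGens g_levels) ∧
      Nat.card Hg = Core.orderC g_levels :=
  Core.main_of_checkAll (fun c hc => (rep_T c hc).imp fun _ h => h.1) chain_ok

theorem card_Hg : Nat.card Hg = 174182400 := by
  rw [main_H.2.2.2.2.2, order_ok]

theorem nondeg : (QuadraticMap.polarBilin (Cfsg.Agent.Lib.Orth.Forms.plusForm 4 K2)).Nondegenerate :=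
  Cfsg.Agent.Lib.Orth.Forms.plusForm_nondeg 4

theorem card_center_Omega : Nat.card (Subgroup.center (Cfsg.Omega K2 Qf)) = 1 :=
  Cfsg.Agent.Lib.Classical.QuadEichBridge.card_center_of_two
    (Cfsg.Agent.Lib.Orth.Forms.plusForm 4 K2) nondeg (by simp) (by decide)

theorem center_Omega : Subgroup.center (Cfsg.Omega K2 Qf) = ⊥ :=
  (Subgroup.card_eq_one).1 card_center_Omega

theorem card_POmega : Nat.card (Cfsg.POmega K2 Qf) = 174182400 := by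
  have h := Cfsg.Agent.Lib.Classical.QuadEichBridge.card_POmega_plus (F := K2) (q := 2) (by simp [ZMod.card]) 4 le_rfl
  norm_num [Finset.prod_range_succ] at h
  exact h

theorem card_Omega : Nat.card (Cfsg.Omega K2 Qf) = 174182400 := by
  have h := Subgroup.card_eq_card_quotient_mul_card_subgroup (Subgroup.center (Cfsg.Omega K2 Qf))
  have h2 : Nat.card (↥(Cfsg.Omega K2 Qf) ⧸ Subgroup.center (Cfsg.Omega K2 Qf)) = 174182400 := card_POmega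
  rw [h2, card_center_Omega] at h
  simpa using h

theorem rho_O_inj : Function.Injective (rho.comp (Cfsg.Omega K2 Qf).subtype) :=
  rho_inj.comp (Subgroup.subtype_injective _)

theorem Hg_eq : Hg = (rho.comp (Cfsg.Omega K2 Qf).subtype).range := by
  apply Subgroup.eq_of_le_of_card_ge
  · apply (Subgroup.closure_le _).2
    rintro g ⟨c, hc, hg⟩
    obtain ⟨g', hg', hr⟩ := rep_T c hc
    rw [hg.unique hg']
    exact hr
  · rw [card_Hg, ← card_Omega]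
    exact le_of_eq (Nat.card_congr (MonoidHom.ofInjective rho_O_inj).toEquiv).symm

/-- `Ω₈⁺(2)` is the permutation group. -/
noncomputable def equivOmega : Cfsg.Omega K2 Qf ≃* Hg :=
  (MonoidHom.ofInjective rho_O_inj).trans (MulEquiv.subgroupCongr Hg_eq.symm)

theorem form_map {F : Type*} [Field F] (f : F ≃+* K2) (v : Fin 4 ⊕ Fin 4 → F) :
    Cfsg.quadFormPlus 4 K2 (Cfsg.Agent.Lib.PermRepO.Transfer.mapV (f : F →+* K2) v) = f (Cfsg.quadFormPlus 4 F v) := by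
  simp [Cfsg.quadFormPlus, Cfsg.Agent.Lib.PermRepO.Transfer.mapV, map_sum, map_mul]

/-- The group of the statement. -/
theorem nonempty_equiv {F : Type*} [Field F] [Fintype F] (hF : Fintype.card F = 2) :
    Nonempty (Cfsg.POmega F (Cfsg.quadFormPlus 4 F) ≃* Hg) := by
  have f : F ≃+* K2 := FiniteField.ringEquivOfCardEq (by rw [hF, ZMod.card])
  let I := Cfsg.Agent.Lib.PermRepO.Transfer.isoCongr f (Cfsg.quadFormPlus 4 F) (Cfsg.quadFormPlus 4 K2) (form_map f)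
  let J : Cfsg.Omega F (Cfsg.quadFormPlus 4 F) ≃* Cfsg.Omega K2 Qf :=
    { toFun := fun s => ⟨I s.1, (Cfsg.Agent.Lib.Orth.Bridge.mem_commutator_equiv I s.1).1 s.2⟩
      invFun := fun s => ⟨I.symm s.1, (Cfsg.Agent.Lib.Orth.Bridge.mem_commutator_equiv I _).2 (by simp)⟩
      left_inv := fun s => by
        apply Subtype.ext
        simp
      right_inv := fun s => by
        apply Subtype.ext
        simp
      map_mul' := fun s t => by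
        apply Subtype.ext
        simp }
  exact ⟨(Cfsg.Agent.Lib.Classical.SympSimple.quotientCenterEquiv J).trans
    (((QuotientGroup.quotientMulEquivOfEq center_Omega).trans QuotientGroup.quotientBot).trans equivOmega)⟩

end Cfsg.Agent.Lib.Schur.O8.Main
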